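import Groth.Agent.QCohEquiv7.Rpush
import Groth.Agent.QCoh.Pullback

/-! Coherators and direct images along flat morphisms. -/

set_option autoImplicit false
set_option linter.style.haveILetI false
set_option backward.isDefEq.respectTransparency false
set_option backward.isDefEq.respectTransparency.types false
set_option maxHeartbeats 1000000

universe u

open CategoryTheory CategoryTheory.Limits AlgebraicGeometry Pretriangulated

attribute [local instance] HasDerivedCategory.standard

noncomputable section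

namespace Groth.Agent.QCohEquiv7

open Groth.Agent.KFlatLib

variable {X Y : Scheme.{u}} (f : X ⟶ Y)
  (hf : ∀ M : X.Modules, Coh.IsQCoh M → Coh.IsQCoh ((Scheme.Modules.pushforward f).obj M))
  {QX : X.Modules ⥤ QC X} (aX : inc X ⊣ QX) {QY : Y.Modules ⥤ QC Y} (aY : inc Y ⊣ QY)

/-- Mate of the counit. -/
def cohTrans : QX ⋙ pushQ f hf ⟶ Scheme.Modules.pushforward f ⋙ QY where
  app M := aY.homEquiv ((pushQ f hf).obj (QX.obj M)) _ ((Scheme.Modules.pushforward f).map (aX.counit.app M))
  naturality M N g := by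
    show (pushQ f hf).map (QX.map g) ≫ aY.homEquiv _ _ _ = aY.homEquiv _ _ _ ≫ QY.map _
    rw [← aY.homEquiv_naturality_left, ← aY.homEquiv_naturality_right]
    refine congrArg _ ?_
    show (Scheme.Modules.pushforward f).map ((inc X).map (QX.map g)) ≫ _ = _ ≫ _
    rw [← Functor.map_comp, ← Functor.map_comp]
    exact congrArg _ (aX.counit.naturality g)

theorem isIso_cohTrans : IsIso (cohTrans f hf aX aY) := by
  have : ∀ M, IsIso ((cohTrans f hf aX aY).app M) := fun M => by
    refine isIso_iff_yoneda_map_bijective _ |>.2 fun N => ?_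
    let P : QC X := ⟨(Scheme.Modules.pullback f).obj N.obj, QCoh.isQCoh_pullback f N.property⟩
    let a := Scheme.Modules.pullbackPushforwardAdjunction f
    let E : (N ⟶ (pushQ f hf).obj (QX.obj M)) ≃ (N ⟶ QY.obj ((Scheme.Modules.pushforward f).obj M)) :=
      (ObjectProperty.fullyFaithfulι _).homEquiv.trans ((a.homEquiv N.obj _).symm.trans
        (((ObjectProperty.fullyFaithfulι (fun M : X.Modules => Coh.IsQCoh M)).homEquiv (X := P) (Y := QX.obj M)).symm.trans
          ((aX.homEquiv P M).symm.trans ((a.homEquiv N.obj M).trans (aY.homEquiv N _)))))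
    have h : (fun φ : N ⟶ (pushQ f hf).obj (QX.obj M) => φ ≫ (cohTrans f hf aX aY).app M) = E := by
      funext φ
      show φ ≫ aY.homEquiv _ _ _ = E φ
      rw [← aY.homEquiv_naturality_left]
      refine congrArg (aY.homEquiv N _) ?_
      show φ.hom ≫ (Scheme.Modules.pushforward f).map (aX.counit.app M) =
        a.homEquiv N.obj M ((aX.homEquiv P M).symm (ObjectProperty.homMk ((a.homEquiv N.obj (QX.obj M).obj).symm φ.hom)))
      rw [Adjunction.homEquiv_counit (adj := aX)]
      exact ((a.homEquiv_naturality_right _ _).trans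
        (congrArg (· ≫ _) (Equiv.apply_symm_apply _ _))).symm
    exact h ▸ E.bijective
  exact NatIso.isIso_of_isIso_app _

/-- Composition on homotopy categories. -/
def compK {A : Type*} [Category A] [Preadditive A] {B : Type*} [Category B] [Preadditive B]
    {C : Type*} [Category C] [Preadditive C] (F : A ⥤ B) (G : B ⥤ C) [F.Additive] [G.Additive] :
    F.mapHomotopyCategory (ComplexShape.up ℤ) ⋙ G.mapHomotopyCategory (ComplexShape.up ℤ) ≅
      (F ⋙ G).mapHomotopyCategory (ComplexShape.up ℤ) :=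
  NatIso.ofComponents (fun _ => Iso.refl _) (fun {K L} a => by
    obtain ⟨a, rfl⟩ := (HomotopyCategory.quotient _ _).map_surjective a
    exact (Category.comp_id _).trans (Category.id_comp _).symm)

theorem nonempty_coherator_square [Flat f] [QuasiCompact f] [QuasiSeparated f] [DCoh.HasRpush f]
    [QX.Additive] [QY.Additive] [(pushQ f hf).Additive]
    [(QX.mapHomotopyCategory (ComplexShape.up ℤ) ⋙ DerivedCategory.Qh).HasRightDerivedFunctor
      (HomotopyCategory.quasiIso X.Modules (ComplexShape.up ℤ))]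
    [(QY.mapHomotopyCategory (ComplexShape.up ℤ) ⋙ DerivedCategory.Qh).HasRightDerivedFunctor
      (HomotopyCategory.quasiIso Y.Modules (ComplexShape.up ℤ))]
    [((pushQ f hf).mapHomotopyCategory (ComplexShape.up ℤ) ⋙ DerivedCategory.Qh).HasRightDerivedFunctor
      (HomotopyCategory.quasiIso (QC X) (ComplexShape.up ℤ))]
    (hX : inc X ⊣ QX) (hY : inc Y ⊣ QY) :
    Nonempty (DCoh.Rpush f ⋙ (QY.mapHomotopyCategory (ComplexShape.up ℤ) ⋙ DerivedCategory.Qh).totalRightDerived
        DerivedCategory.Qh (HomotopyCategory.quasiIso Y.Modules (ComplexShape.up ℤ)) ≅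
      (QX.mapHomotopyCategory (ComplexShape.up ℤ) ⋙ DerivedCategory.Qh).totalRightDerived
        DerivedCategory.Qh (HomotopyCategory.quasiIso X.Modules (ComplexShape.up ℤ)) ⋙
        ((pushQ f hf).mapHomotopyCategory (ComplexShape.up ℤ) ⋙ DerivedCategory.Qh).totalRightDerived
          DerivedCategory.Qh (HomotopyCategory.quasiIso (QC X) (ComplexShape.up ℤ))) := by
  let FX := QX.mapHomotopyCategory (ComplexShape.up ℤ)
  let FY := QY.mapHomotopyCategory (ComplexShape.up ℤ)
  let G := (pushQ f hf).mapHomotopyCategory (ComplexShape.up ℤ)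
  let P := (Scheme.Modules.pushforward f).mapHomotopyCategory (ComplexShape.up ℤ)
  haveI : (resM X ⋙ DCoh.pushKh f).IsRightDerivedFunctor
      (Functor.whiskerRight (adjM X).unit (DCoh.pushKh f)) (HomotopyCategory.quasiIso X.Modules (ComplexShape.up ℤ)) :=
    TriCat.isRightDerivedFunctor_of_adjunction (adjM X) _ _
  haveI : (resM X ⋙ FX ⋙ DerivedCategory.Qh).IsRightDerivedFunctor
      (Functor.whiskerRight (adjM X).unit (FX ⋙ DerivedCategory.Qh))
      (HomotopyCategory.quasiIso X.Modules (ComplexShape.up ℤ)) :=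
    TriCat.isRightDerivedFunctor_of_adjunction (adjM X) _ _
  haveI : (resM Y ⋙ FY ⋙ DerivedCategory.Qh).IsRightDerivedFunctor
      (Functor.whiskerRight (adjM Y).unit (FY ⋙ DerivedCategory.Qh))
      (HomotopyCategory.quasiIso Y.Modules (ComplexShape.up ℤ)) :=
    TriCat.isRightDerivedFunctor_of_adjunction (adjM Y) _ _
  haveI : (resQ X ⋙ G ⋙ DerivedCategory.Qh).IsRightDerivedFunctor
      (Functor.whiskerRight (Noeth.adjQ X).unit (G ⋙ DerivedCategory.Qh))
      (HomotopyCategory.quasiIso (QC X) (ComplexShape.up ℤ)) :=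
    TriCat.isRightDerivedFunctor_of_adjunction (Noeth.adjQ X) _ _
  let e1 : resM X ⋙ DCoh.pushKh f ≅ DCoh.Rpush f :=
    Functor.rightDerivedUnique _ _ (Functor.whiskerRight (adjM X).unit (DCoh.pushKh f))
      ((DCoh.pushKh f).totalRightDerivedUnit DerivedCategory.Qh _)
      (HomotopyCategory.quasiIso X.Modules (ComplexShape.up ℤ))
  let e2 : resM Y ⋙ FY ⋙ DerivedCategory.Qh ≅ _ :=
    Functor.rightDerivedUnique _ _ (Functor.whiskerRight (adjM Y).unit (FY ⋙ DerivedCategory.Qh))
      ((FY ⋙ DerivedCategory.Qh).totalRightDerivedUnit DerivedCategory.Qh (HomotopyCategory.quasiIso Y.Modules (ComplexShape.up ℤ)))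
      (HomotopyCategory.quasiIso Y.Modules (ComplexShape.up ℤ))
  let e3 : resM X ⋙ FX ⋙ DerivedCategory.Qh ≅ _ :=
    Functor.rightDerivedUnique _ _ (Functor.whiskerRight (adjM X).unit (FX ⋙ DerivedCategory.Qh))
      ((FX ⋙ DerivedCategory.Qh).totalRightDerivedUnit DerivedCategory.Qh (HomotopyCategory.quasiIso X.Modules (ComplexShape.up ℤ)))
      (HomotopyCategory.quasiIso X.Modules (ComplexShape.up ℤ))
  let e4 : resQ X ⋙ G ⋙ DerivedCategory.Qh ≅ _ :=
    Functor.rightDerivedUnique _ _ (Functor.whiskerRight (Noeth.adjQ X).unit (G ⋙ DerivedCategory.Qh))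
      ((G ⋙ DerivedCategory.Qh).totalRightDerivedUnit DerivedCategory.Qh (HomotopyCategory.quasiIso (QC X) (ComplexShape.up ℤ)))
      (HomotopyCategory.quasiIso (QC X) (ComplexShape.up ℤ))
  have hrep : ∀ L : DCoh.D X, ∃ I : CochainComplex X.Modules ℤ, I.IsKInjective ∧
      Nonempty ((HomotopyCategory.quotient X.Modules (ComplexShape.up ℤ)).obj I ≅ (resM X).obj L) := fun L => by
    obtain ⟨I, s, hI, hs⟩ := exists_kInjective_res (DerivedCategory.Q.objPreimage L)
    exact ⟨I, hI, ⟨@asIso _ _ _ _ ((adjM X).unit.app _) (TriCat.isIso_unit_of_isKInjective (adjM X) I) ≪≫ (resM X).mapIso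
      ((DerivedCategory.quotientCompQhIso X.Modules).app I ≪≫ (asIso (DerivedCategory.Q.map s)).symm ≪≫
        DerivedCategory.Q.objObjPreimageIso L)⟩⟩
  let u1 := Functor.whiskerLeft (resM X ⋙ P) (adjM Y).unit
  haveI : ∀ L, IsIso (u1.app L) := fun L => by
    obtain ⟨I, hI, ⟨e⟩⟩ := hrep L
    haveI : (Scheme.Modules.pullback f).Additive := Functor.additive_of_preserves_binary_products _
    haveI := isKInjective_pushforward f I
    haveI := TriCat.isIso_unit_of_isKInjective (adjM Y)
      (((Scheme.Modules.pushforward f).mapHomologicalComplex (ComplexShape.up ℤ)).obj I)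
    exact (NatTrans.isIso_app_iff_of_iso (adjM Y).unit
      ((((Scheme.Modules.pushforward f).mapHomotopyCategoryFactors (ComplexShape.up ℤ)).app I).symm ≪≫
        P.mapIso e)).1 (TriCat.isIso_unit_of_isKInjective (adjM Y)
      (((Scheme.Modules.pushforward f).mapHomologicalComplex (ComplexShape.up ℤ)).obj I))
  haveI : IsIso u1 := NatIso.isIso_of_isIso_app _
  let u2 := Functor.whiskerLeft (resM X ⋙ FX) (Noeth.adjQ X).unit
  haveI : ∀ L, IsIso (u2.app L) := fun L => by
    obtain ⟨I, hI, ⟨e⟩⟩ := hrep L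
    haveI := SiteBase.isKInjective_map hX I
    haveI := Noeth.isIso_adjQ_unit ((QX.mapHomologicalComplex (ComplexShape.up ℤ)).obj I)
    exact (NatTrans.isIso_app_iff_of_iso (Noeth.adjQ X).unit
      (((QX.mapHomotopyCategoryFactors (ComplexShape.up ℤ)).app I).symm ≪≫ FX.mapIso e)).1
        (Noeth.isIso_adjQ_unit ((QX.mapHomologicalComplex (ComplexShape.up ℤ)).obj I))
  haveI : IsIso u2 := NatIso.isIso_of_isIso_app _
  haveI := isIso_cohTrans f hf hX hY
  haveI : IsIso (NatTrans.mapHomotopyCategory (cohTrans f hf hX hY) (ComplexShape.up ℤ)) :=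
    ⟨NatTrans.mapHomotopyCategory (inv (cohTrans f hf hX hY)) (ComplexShape.up ℤ),
      by rw [← NatTrans.mapHomotopyCategory_comp, IsIso.hom_inv_id, NatTrans.mapHomotopyCategory_id],
      by rw [← NatTrans.mapHomotopyCategory_comp, IsIso.inv_hom_id, NatTrans.mapHomotopyCategory_id]⟩
  let c : P ⋙ FY ≅ FX ⋙ G :=
    compK _ _ ≪≫ (asIso (NatTrans.mapHomotopyCategory (cohTrans f hf hX hY) (ComplexShape.up ℤ))).symm ≪≫
      (compK _ _).symm
  exact ⟨Functor.isoWhiskerRight e1.symm _ ≪≫ Functor.isoWhiskerLeft _ e2.symm ≪≫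
    Functor.isoWhiskerRight (asIso u1).symm (FY ⋙ DerivedCategory.Qh) ≪≫
    Functor.isoWhiskerLeft (resM X) (Functor.isoWhiskerRight c DerivedCategory.Qh) ≪≫
    Functor.isoWhiskerRight (asIso u2) (G ⋙ DerivedCategory.Qh) ≪≫
    Functor.isoWhiskerLeft (resM X ⋙ FX ⋙ DerivedCategory.Qh) e4 ≪≫ Functor.isoWhiskerRight e3 _⟩

end Groth.Agent.QCohEquiv7
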