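import Groth.Agent.KFlatLib.Scheme.AffinePush
import Groth.Agent.QCoh.GodLoc
import Mathlib.CategoryTheory.Preadditive.Injective.Basic

/-! Sections of complexes of injective modules over quasi-compact opens. -/

set_option autoImplicit false
set_option linter.style.haveILetI false
set_option backward.isDefEq.respectTransparency false
set_option backward.isDefEq.respectTransparency.types false
set_option maxHeartbeats 1000000

universe u

open CategoryTheory CategoryTheory.Limits AlgebraicGeometry TopologicalSpace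

attribute [local instance] HasDerivedCategory.standard

noncomputable section

namespace Groth.Agent.QCohEquiv7

open Groth.Agent.QCoh Groth.Agent.KFlatLib

variable {X Y : Scheme.{u}}

/-- Sections of an injective module extend. -/
lemma exists_rs_of_injective (J : X.Modules) [Injective J] {U V : X.Opens} (h : V ≤ U) (t : Γ(J, V)) :
    ∃ s, rs J h s = t := by
  let r := Injective.factorThru (𝟙 J) (toGod J)
  obtain ⟨s, hs⟩ := exists_rs_God h ((toGod J).app V t)
  refine ⟨r.app U s, ?_⟩
  rw [← app_rs, hs]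
  exact congr(($(Injective.comp_factorThru (𝟙 J) (toGod J))).app V t)

/-- Exactness on sections over `W`. -/
def SecExact (C : CochainComplex X.Modules ℤ) (W : X.Opens) : Prop :=
  ∀ n (z : Γ(C.X n, W)), (C.d n (n + 1)).app W z = 0 → ∃ y, (C.d (n - 1) n).app W y = z

lemma secExact_sup {C : CochainComplex X.Modules ℤ} (hC : ∀ n, Injective (C.X n)) {U V : X.Opens}
    (hU : SecExact C U) (hV : SecExact C V) (hUV : SecExact C (U ⊓ V)) : SecExact C (U ⊔ V) := by
  intro n z hz
  obtain ⟨a, ha⟩ := hU n (rs _ le_sup_left z) (by rw [app_rs, hz, rs_zero])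
  obtain ⟨b, hb⟩ := hV n (rs _ le_sup_right z) (by rw [app_rs, hz, rs_zero])
  have hcoc : (C.d (n - 1) (n - 1 + 1)).app (U ⊓ V) (rs _ inf_le_left a - rs _ inf_le_right b) = 0 := by
    rw [show n - 1 + 1 = n from by omega, map_sub, app_rs, app_rs, ha, hb, rs_rs, rs_rs, sub_self]
  obtain ⟨c, hc⟩ := hUV (n - 1) _ hcoc
  haveI := hC (n - 1 - 1)
  obtain ⟨c', hc'⟩ := exists_rs_of_injective (C.X (n - 1 - 1)) (inf_le_left : U ⊓ V ≤ U) c
  have ha' : (C.d (n - 1) n).app U (a - (C.d (n - 1 - 1) (n - 1)).app U c') = rs _ le_sup_left z := by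
    have h0 : (C.d (n - 1) n).app U ((C.d (n - 1 - 1) (n - 1)).app U c') = 0 :=
      congr(($(C.d_comp_d (n - 1 - 1) (n - 1) n)).app U c')
    rw [map_sub, ha, h0, sub_zero]
  obtain ⟨y, hy1, hy2⟩ := exists_glue_sup (G := C.X (n - 1)) (W := U ⊔ V) rfl le_sup_left le_sup_right
    (a - (C.d (n - 1 - 1) (n - 1)).app U c') b (by
      rw [rs_sub, ← app_rs, hc', hc, sub_sub_cancel])
  refine ⟨y, eq_of_sup (G := C.X n) (W := U ⊔ V) rfl le_sup_left le_sup_right _ _ ?_ ?_⟩
  · rw [← app_rs, hy1, ha']
  · rw [← app_rs, hy2, hb]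

lemma secExact_bot (C : CochainComplex X.Modules ℤ) : SecExact C ⊥ := fun n z _ =>
  ⟨0, TopCat.Presheaf.section_ext ⟨(C.X n).presheaf, (C.X n).isSheaf⟩ ⊥ _ _ fun _ hx => hx.elim⟩

lemma secExact_foldr {C : CochainComplex X.Modules ℤ} (hC : ∀ n, Injective (C.X n)) (P : X.Opens → Prop)
    (hdiag : ∀ U V : X.Opens, P U → P V → P (U ⊓ V))
    (haff : ∀ V : X.Opens, P V → SecExact C V) :
    ∀ (k : ℕ) (l : List X.Opens), l.length = k → (∀ U ∈ l, P U) → SecExact C (l.foldr (· ⊔ ·) ⊥) := by
  intro k
  induction k with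
  | zero =>
    intro l hl _
    rw [List.length_eq_zero_iff.1 hl]
    exact secExact_bot C
  | succ k ih =>
    intro l hl hA
    match l, hl with
    | V :: t, hl =>
      have hlt : t.length = k := by simpa using hl
      refine secExact_sup hC (haff V (hA V (by simp))) (ih t hlt fun U hU => hA U (by simp [hU])) ?_
      have e : V ⊓ t.foldr (· ⊔ ·) ⊥ = (t.map (V ⊓ ·)).foldr (· ⊔ ·) ⊥ := by
        clear hl hA hlt
        induction t with
        | nil => simp
        | cons U t iht => simp [inf_sup_left, iht]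
      rw [e]
      refine ih _ (by simpa using hlt) fun U hU => ?_
      obtain ⟨W, hW, rfl⟩ := List.mem_map.1 hU
      exact hdiag _ _ (hA V (by simp)) (hA W (by simp [hW]))

lemma exists_list_affine (W : X.Opens) (hW : IsCompact (W : Set X)) :
    ∃ l : List X.Opens, (∀ U ∈ l, IsAffineOpen U ∧ U ≤ W) ∧ W = l.foldr (· ⊔ ·) ⊥ := by
  obtain ⟨s, hs, hcov⟩ := isCompact_iff_finite_and_eq_biUnion_affineOpens.mp hW
  let l : List X.Opens := List.map (fun V : X.affineOpens => V.1) hs.toFinset.toList
  have hl : W = l.foldr (· ⊔ ·) ⊥ := by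
    have e : ∀ t : List X.Opens, ∀ x, x ∈ t.foldr (· ⊔ ·) ⊥ ↔ ∃ U ∈ t, x ∈ U := by
      intro t x
      induction t with
      | nil => simp
      | cons U t iht => simp [iht]
    rw [hcov]
    ext x
    simp only [SetLike.mem_coe, e, l, List.mem_map, Finset.mem_toList, Set.Finite.mem_toFinset, Opens.mem_iSup]
    exact ⟨fun ⟨V, hV, hx⟩ => ⟨_, ⟨V, hV, rfl⟩, hx⟩, fun ⟨_, ⟨V, hV, rfl⟩, hx⟩ => ⟨V, hV, hx⟩⟩
  refine ⟨l, fun U hU => ?_, hl⟩
  obtain ⟨V, hV, rfl⟩ := List.mem_map.1 hU
  refine ⟨V.2, ?_⟩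
  rw [hcov]
  exact le_iSup₂_of_le V (by simpa using hV) le_rfl

/-- Exactness on affine opens gives exactness on all quasi-compact opens. -/
theorem secExact_of_affine {C : CochainComplex X.Modules ℤ} (hC : ∀ n, Injective (C.X n))
    [QuasiSeparatedSpace X]
    (haff : ∀ V : X.Opens, IsAffineOpen V → SecExact C V) (W : X.Opens) (hW : IsCompact (W : Set X)) :
    SecExact C W := by
  have h1 : ∀ A : X.Opens, IsAffineOpen A → ∀ W : X.Opens, IsCompact (W : Set X) → W ≤ A → SecExact C W := by
    intro A hA W hW hWA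
    obtain ⟨l, hl, e⟩ := exists_list_affine W hW
    rw [e]
    haveI : IsAffine (A : Scheme.{u}) := hA
    refine secExact_foldr hC (fun U => IsAffineOpen U ∧ U ≤ A) (fun U V hU hV => ⟨?_, inf_le_left.trans hU.2⟩)
      (fun V hV => haff V hV.1) _ l rfl fun U hU => ⟨(hl U hU).1, (hl U hU).2.trans hWA⟩
    have := ((hU.1.preimage_of_isOpenImmersion A.ι (by rw [A.opensRange_ι]; exact hU.2)).inf
      (hV.1.preimage_of_isOpenImmersion A.ι (by rw [A.opensRange_ι]; exact hV.2))).image_of_isOpenImmersion A.ι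
    rwa [← Scheme.Hom.preimage_inf, Scheme.Hom.image_preimage_eq_opensRange_inf, A.opensRange_ι,
      inf_eq_right.2 (inf_le_left.trans hU.2)] at this
  obtain ⟨l, hl, e⟩ := exists_list_affine W hW
  rw [e]
  refine secExact_foldr hC (fun U => IsCompact (U : Set X) ∧ ∃ A : X.Opens, IsAffineOpen A ∧ U ≤ A)
    (fun U V hU hV => ⟨QuasiSeparatedSpace.inter_isCompact U.1 V.1 U.2 hU.1 V.2 hV.1,
      hU.2.imp fun A h => ⟨h.1, inf_le_left.trans h.2⟩⟩)
    (fun V hV => hV.2.elim fun A h => h1 A h.1 V hV.1 h.2) _ l rfl fun U hU =>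
      ⟨(hl U hU).1.isCompact, U, (hl U hU).1, le_rfl⟩

lemma isIso_rpushUnit_of_injective (f : X ⟶ Y) [DCoh.HasRpush f] [QuasiCompact f] [QuasiSeparatedSpace X]
    (F : CochainComplex X.Modules ℤ) (hq : ∀ n, Coh.IsQCoh (F.X n)) (hinj : ∀ n, Injective (F.X n)) :
    IsIso (((DCoh.pushKh f).totalRightDerivedUnit DerivedCategory.Qh
      (HomotopyCategory.quasiIso X.Modules (ComplexShape.up ℤ))).app
        ((HomotopyCategory.quotient X.Modules (ComplexShape.up ℤ)).obj F)) := by
  obtain ⟨I, s, hI, hs, -, hIinj⟩ := TriCat.exists_kInjective_resolution'.{u} F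
  let q := HomotopyCategory.quotient X.Modules (ComplexShape.up ℤ)
  let P := (Scheme.Modules.pushforward f).mapHomologicalComplex (ComplexShape.up ℤ)
  let C := CochainComplex.mappingCone s
  have hCinj : ∀ n, Injective (C.X n) := fun n => by
    haveI := hinj (n + 1)
    haveI := hIinj n
    exact Injective.of_iso (HomologicalComplex.homotopyCofiber.XIsoBiprod s n (n + 1) rfl).symm inferInstance
  have haff : ∀ V : X.Opens, IsAffineOpen V → SecExact C V := fun V hV => by
    rw [← V.ι_image_top]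
    intro n z hz
    obtain ⟨y, hy⟩ := exists_lift_cone hq hV s n ((secEquiv V _).symm z) (by
      refine (secEquiv V _).injective ?_
      rw [secEquiv_naturality, Equiv.apply_symm_apply, hz,
        show (0 : secObj V ⟶ C.X (n + 1)) = 0 ≫ (0 : C.X n ⟶ C.X (n + 1)) by simp, secEquiv_naturality]
      rfl)
    exact ⟨secEquiv V _ y, by rw [← secEquiv_naturality, hy, Equiv.apply_symm_apply]⟩
  have hC : ∀ n, ((P.obj C)).ExactAt n := by
    refine exactAt_of_sections fun V hV n z hz => ?_
    have hW : SecExact C ((f ⁻¹ᵁ V).ι ''ᵁ ⊤) := by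
      rw [Scheme.Opens.ι_image_top]
      exact secExact_of_affine hCinj haff _
        (QuasiCompact.isCompact_preimage (f := f) (V : Set Y) V.isOpen hV.isCompact)
    obtain ⟨y, hy⟩ := hW n (secEquiv _ _ (secPushEquiv f V _ z)) (by
      rw [← secEquiv_naturality, ← secPushEquiv_naturality]
      refine (congrArg _ ((congrArg (secPushEquiv f V _) hz).trans (secPushEquiv_zero f V _))).trans ?_
      rw [show (0 : secObj (f ⁻¹ᵁ V) ⟶ C.X (n + 1)) = 0 ≫ (0 : C.X n ⟶ C.X (n + 1)) by simp, secEquiv_naturality]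
      rfl)
    refine ⟨(secPushEquiv f V _).symm ((secEquiv _ _).symm y), (secPushEquiv f V _).injective ?_⟩
    refine (secPushEquiv_naturality f V _ _).trans ?_
    rw [Equiv.apply_symm_apply]
    refine (secEquiv _ _).injective ?_
    rw [secEquiv_naturality, Equiv.apply_symm_apply, hy]
  haveI : QuasiIso (P.map s) := by
    have hC' : HomotopyCategory.subcategoryAcyclic Y.Modules
        ((HomotopyCategory.quotient Y.Modules (ComplexShape.up ℤ)).obj
          (CochainComplex.mappingCone (P.map s))) := by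
      refine (HomotopyCategory.quotient_obj_mem_subcategoryAcyclic_iff_exactAt _).2 fun n => ?_
      exact ((hC n).of_iso
        ((CochainComplex.mappingCone.mapHomologicalComplexIso s (Scheme.Modules.pushforward f))))
    have hW : (HomotopyCategory.subcategoryAcyclic Y.Modules).trW
        ((HomotopyCategory.quotient Y.Modules (ComplexShape.up ℤ)).map (P.map s)) :=
      ⟨_, _, _, HomotopyCategory.mappingCone_triangleh_distinguished (P.map s), hC'⟩
    rwa [← HomotopyCategory.quasiIso_eq_trW_subcategoryAcyclic,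
      HomotopyCategory.quotient_map_mem_quasiIso_iff, HomologicalComplex.mem_quasiIso_iff] at hW
  haveI : IsIso ((DCoh.pushKh f).map (q.map s)) :=
    (NatIso.isIso_map_iff ((Functor.associator _ _ _).symm ≪≫
      Functor.isoWhiskerRight ((Scheme.Modules.pushforward f).mapHomotopyCategoryFactors
        (ComplexShape.up ℤ)) _ ≪≫ Functor.associator _ _ _ ≪≫
      Functor.isoWhiskerLeft _ (DerivedCategory.quotientCompQhIso Y.Modules)) s).2
      (inferInstanceAs (IsIso (DerivedCategory.Q.map (P.map s))))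
  haveI : IsIso (DerivedCategory.Qh.map (q.map s)) :=
    (NatIso.isIso_map_iff (DerivedCategory.quotientCompQhIso X.Modules) s).2 inferInstance
  haveI := KFlatLib.isIso_unit_of_kInjective f I
  let α := (DCoh.pushKh f).totalRightDerivedUnit DerivedCategory.Qh
    (HomotopyCategory.quasiIso X.Modules (ComplexShape.up ℤ))
  haveI : IsIso (α.app (q.obj F) ≫ (DCoh.Rpush f).map (DerivedCategory.Qh.map (q.map s))) := by
    have := α.naturality (q.map s)
    simp only [Functor.comp_map] at this
    rw [← this]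
    change IsIso ((DCoh.pushKh f).map (q.map s) ≫ α.app (q.obj I))
    exact IsIso.comp_isIso' inferInstance ‹_›
  exact IsIso.of_isIso_comp_right (α.app (q.obj F))
    ((DCoh.Rpush f).map (DerivedCategory.Qh.map (q.map s)))

end Groth.Agent.QCohEquiv7
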