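import Groth.Agent.H9Misc.TelLocal
import Mathlib.CategoryTheory.Triangulated.Adjunction

/-! Lemmas on functors between derived categories. -/

set_option autoImplicit false
set_option linter.style.haveILetI false

universe w w' w'' v v' v'' u u' u''

open CategoryTheory Category Limits Pretriangulated

namespace Groth.Agent.QCohEquiv7

section MapD

variable {A : Type u} [Category.{v} A] [Abelian A] [HasDerivedCategory.{w} A]
  {B : Type u'} [Category.{v'} B] [Abelian B] [HasDerivedCategory.{w'} B]
  {C : Type u''} [Category.{v''} C] [Abelian C] [HasDerivedCategory.{w''} C]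

variable (F : A ⥤ B) (G : B ⥤ C) (H : A ⥤ C) [F.Additive] [G.Additive] [H.Additive]
  [PreservesFiniteLimits F] [PreservesFiniteColimits F] [PreservesFiniteLimits G] [PreservesFiniteColimits G]
  [PreservesFiniteLimits H] [PreservesFiniteColimits H]

/-- Derived functors of exact functors compose. -/
noncomputable def mapDerivedComp (e : F ⋙ G ≅ H) :
    F.mapDerivedCategory ⋙ G.mapDerivedCategory ≅ H.mapDerivedCategory :=
  letI : Localization.Lifting DerivedCategory.Q (HomologicalComplex.quasiIso A (ComplexShape.up ℤ))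
      (H.mapHomologicalComplex (ComplexShape.up ℤ) ⋙ DerivedCategory.Q)
      (F.mapDerivedCategory ⋙ G.mapDerivedCategory) :=
    ⟨(Functor.associator _ _ _).symm ≪≫ Functor.isoWhiskerRight F.mapDerivedCategoryFactors _ ≪≫
      Functor.associator _ _ _ ≪≫ Functor.isoWhiskerLeft _ G.mapDerivedCategoryFactors ≪≫
      (Functor.associator _ _ _).symm ≪≫ Functor.isoWhiskerRight
        (NatIso.mapHomologicalComplex e (ComplexShape.up ℤ)) DerivedCategory.Q⟩
  Localization.liftNatIso DerivedCategory.Q (HomologicalComplex.quasiIso A (ComplexShape.up ℤ))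
    (H.mapHomologicalComplex (ComplexShape.up ℤ) ⋙ DerivedCategory.Q)
    (H.mapHomologicalComplex (ComplexShape.up ℤ) ⋙ DerivedCategory.Q) _ _ (Iso.refl _)

omit [G.Additive] in
/-- The identity functor. -/
noncomputable def mapDerivedId (E : A ⥤ A) [E.Additive] [PreservesFiniteLimits E] [PreservesFiniteColimits E]
    (e : E ≅ 𝟭 A) : E.mapDerivedCategory ≅ 𝟭 (DerivedCategory A) :=
  letI : Localization.Lifting DerivedCategory.Q (HomologicalComplex.quasiIso A (ComplexShape.up ℤ))
      (DerivedCategory.Q : CochainComplex A ℤ ⥤ _) E.mapDerivedCategory :=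
    ⟨E.mapDerivedCategoryFactors ≪≫ Functor.isoWhiskerRight
      (NatIso.mapHomologicalComplex e (ComplexShape.up ℤ) ≪≫ Functor.mapHomologicalComplexIdIso A _)
        DerivedCategory.Q ≪≫ Functor.leftUnitor _⟩
  Localization.liftNatIso DerivedCategory.Q (HomologicalComplex.quasiIso A (ComplexShape.up ℤ))
    (DerivedCategory.Q : CochainComplex A ℤ ⥤ _) (DerivedCategory.Q : CochainComplex A ℤ ⥤ _) _ _ (Iso.refl _)

/-- An equivalence of abelian categories is one of derived categories. -/
noncomputable def derivedEquivalence (E : A ≌ B) [E.functor.Additive] [E.inverse.Additive] :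
    DerivedCategory A ≌ DerivedCategory B :=
  CategoryTheory.Equivalence.mk E.functor.mapDerivedCategory E.inverse.mapDerivedCategory
    ((mapDerivedId (E.functor ⋙ E.inverse) E.unitIso.symm).symm ≪≫
      (mapDerivedComp E.functor E.inverse _ (Iso.refl _)).symm)
    (mapDerivedComp E.inverse E.functor _ (Iso.refl _) ≪≫ mapDerivedId (E.inverse ⋙ E.functor) E.counitIso)

end MapD

section Abstract

variable {C : Type u} [Category.{v} C] {D : Type u'} [Category.{v'} D]
  {C' : Type u''} [Category.{v''} C'] {D' : Type w} [Category.{w'} D']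

/-- Bijectivity on morphisms from a commutative square. -/
theorem bijective_of_square (F : C ⥤ D) (G : C ⥤ C') (H : D ⥤ D') (F' : C' ⥤ D') [F'.Full] [F'.Faithful]
    (e : F ⋙ H ≅ G ⋙ F') (N E : C) (hG : Function.Bijective (G.map : (N ⟶ E) → _))
    (hH : Function.Bijective (H.map : (F.obj N ⟶ F.obj E) → _)) :
    Function.Bijective (F.map : (N ⟶ E) → _) := by
  have h : (H.map ∘ F.map : (N ⟶ E) → _) = ((e.app N).homCongr (e.app E)).symm ∘ F'.map ∘ G.map := by
    funext f
    simp only [Function.comp_apply, Iso.homCongr_symm, Iso.symm_symm_eq, Iso.homCongr_apply]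
    have := NatIso.naturality_2 e f
    simp only [Functor.comp_map] at this
    simp [← this]
  exact (Function.Bijective.of_comp_iff' hH _).1 (h ▸ (Equiv.bijective _).comp
    (((Functor.FullyFaithful.ofFullyFaithful F').map_bijective _ _).comp hG))

variable {F : C ⥤ D} {G : D ⥤ C} (adj : F ⊣ G)

/-- A left adjoint is bijective on morphisms into objects where the unit is invertible. -/
theorem bijective_map_of_isIso_unit (E : C) [IsIso (adj.unit.app E)] (N : C) :
    Function.Bijective (F.map : (N ⟶ E) → _) := by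
  have h : (adj.homEquiv N (F.obj E) ∘ F.map : (N ⟶ E) → _) = fun f => f ≫ adj.unit.app E := by
    funext f
    simp only [Function.comp_apply, Adjunction.homEquiv_unit]
    exact (adj.unit.naturality f).symm
  refine (Function.Bijective.of_comp_iff' (adj.homEquiv _ _).bijective _).1 (h ▸ ?_)
  exact ⟨fun a b => (cancel_mono (adj.unit.app E)).1, fun g => ⟨g ≫ inv (adj.unit.app E), by simp⟩⟩

/-- The unit is invertible at objects into which the left adjoint is bijective on morphisms. -/
theorem isIso_unit_of_bijective (E : C) (h : ∀ N, Function.Bijective (F.map : (N ⟶ E) → _)) :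
    IsIso (adj.unit.app E) := by
  refine isIso_of_yoneda_map_bijective _ fun N => ?_
  have e : (fun f : N ⟶ E => f ≫ adj.unit.app E) = adj.homEquiv N (F.obj E) ∘ F.map := by
    funext f
    simp only [Function.comp_apply, Adjunction.homEquiv_unit]
    exact adj.unit.naturality f
  exact e ▸ (adj.homEquiv _ _).bijective.comp (h N)

/-- The unit is invertible on the essential image of a fully faithful right adjoint. -/
theorem isIso_unit_of_iso [IsIso adj.counit] (Y : D) {E : C} (e : G.obj Y ≅ E) :
    IsIso (adj.unit.app E) := by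
  have h1 : IsIso (adj.unit.app (G.obj Y)) :=
    @IsIso.of_isIso_fac_right _ _ _ _ _ _ _ _ (inferInstance) (IsIso.id _) (adj.right_triangle_components Y)
  have h2 : adj.unit.app E = e.inv ≫ adj.unit.app (G.obj Y) ≫ G.map (F.map e.hom) := by
    rw [Iso.eq_inv_comp]
    exact adj.unit.naturality e.hom
  rw [h2]
  infer_instance

end Abstract

section Tri

variable {C : Type u} [Category.{v} C] [Preadditive C] [HasZeroObject C] [HasShift C ℤ]
  [∀ n : ℤ, (shiftFunctor C n).Additive] [Pretriangulated C]
  {D : Type u'} [Category.{v'} D] [Preadditive D] [HasZeroObject D] [HasShift D ℤ]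
  [∀ n : ℤ, (shiftFunctor D n).Additive] [Pretriangulated D]
  {F : C ⥤ D} {G : D ⥤ C} (adj : F ⊣ G) [F.CommShift ℤ] [F.IsTriangulated]

include adj in
/-- Invertibility of the unit passes to fibres. -/
theorem isIso_unit_obj₁ {T : Triangle C} (hT : T ∈ distTriang C)
    (h₂ : IsIso (adj.unit.app T.obj₂)) (h₃ : IsIso (adj.unit.app T.obj₃)) :
    IsIso (adj.unit.app T.obj₁) := by
  letI := adj.rightAdjointCommShift ℤ
  haveI : adj.CommShift ℤ := adj.commShift_of_leftAdjoint ℤ
  haveI := adj.isTriangulated_rightAdjoint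
  let φ : T ⟶ (F ⋙ G).mapTriangle.obj T :=
    Triangle.homMk _ _ (adj.unit.app _) (adj.unit.app _) (adj.unit.app _)
      (adj.unit.naturality _) (adj.unit.naturality _) (by
        have h1 : (Functor.commShiftIso (𝟭 C) (1 : ℤ)).hom.app T.obj₁ ≫ (shiftFunctor C (1 : ℤ)).map (adj.unit.app T.obj₁) =
            adj.unit.app _ ≫ ((F ⋙ G).commShiftIso (1 : ℤ)).hom.app T.obj₁ :=
          (NatTrans.shift_app_comm adj.unit (1 : ℤ) T.obj₁)
        rw [Functor.commShiftIso_id_hom_app] at h1
        erw [id_comp] at h1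
        show T.mor₃ ≫ _ = adj.unit.app T.obj₃ ≫ (F ⋙ G).map T.mor₃ ≫ _
        erw [h1]
        exact (assoc _ _ _).symm.trans ((congrArg (· ≫ _) (adj.unit.naturality T.mor₃)).trans (assoc _ _ _)))
  exact isIso₁_of_isIso₂₃ φ hT ((F ⋙ G).map_distinguished T hT) h₂ h₃

/-- The essential image of a fully faithful triangulated functor is closed under fibres. -/
theorem exists_preimage_obj₁ [F.Full] {T : Triangle D} (hT : T ∈ distTriang D) {A₂ A₃ : C}
    (e₂ : F.obj A₂ ≅ T.obj₂) (e₃ : F.obj A₃ ≅ T.obj₃) : ∃ A₁, Nonempty (F.obj A₁ ≅ T.obj₁) := by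
  obtain ⟨g, hg⟩ := F.map_surjective (e₂.hom ≫ T.mor₂ ≫ e₃.inv)
  obtain ⟨A₁, f, k, hT'⟩ := distinguished_cocone_triangle₁ g
  let S := F.mapTriangle.obj (Triangle.mk f g k)
  have hS : S ∈ distTriang D := F.map_distinguished _ hT'
  have hc : S.mor₂ ≫ e₃.hom = e₂.hom ≫ T.mor₂ := by
    show F.map g ≫ e₃.hom = _
    simp [hg]
  obtain ⟨a, ha₁, ha₂⟩ := complete_distinguished_triangle_morphism₁ S T hS hT e₂.hom e₃.hom hc
  let φ : S ⟶ T := Triangle.homMk _ _ a e₂.hom e₃.hom ha₁ hc ha₂
  have : IsIso φ.hom₁ := isIso₁_of_isIso₂₃ φ hS hT (inferInstanceAs (IsIso e₂.hom)) (inferInstanceAs (IsIso e₃.hom))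
  exact ⟨A₁, ⟨@asIso _ _ _ _ φ.hom₁ this⟩⟩

end Tri

end Groth.Agent.QCohEquiv7
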