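import Groth.Agent.QCohEquiv7.Lemmas
import Groth.Agent.QCohSupX.Groth
import Groth.Agent.QCoh.Support
import Groth.Agent.QCoh.Qcqs
import Groth.Agent.KFlatLib.Scheme.TildeD
import Groth.Agent.KFlatLib.Scheme.AffinePush
import Groth.Agent.KFlatLib.Scheme.RHomLocal
import Groth.Agent.PerfGen7.PushSupp
import Groth.Agent.H9Misc.ExactLeftAdj
import Groth.Agent.CohD7.QCoh

/-! `D(QCoh X) ≌ D_QCoh(X)` for quasi-compact schemes with affine diagonal. -/

set_option autoImplicit false
set_option linter.style.haveILetI false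
set_option backward.isDefEq.respectTransparency false
set_option backward.isDefEq.respectTransparency.types false
set_option maxHeartbeats 1000000

universe u

open CategoryTheory CategoryTheory.Limits AlgebraicGeometry Pretriangulated
open scoped ZeroObject

attribute [local instance] HasDerivedCategory.standard

noncomputable section

namespace Groth.Agent.QCohEquiv7

open Groth.Agent.KFlatLib Groth.Agent.PerfGen7

/-- The property of being quasi-coherent. -/
abbrev qc (X : Scheme.{u}) : ObjectProperty X.Modules := fun M => Coh.IsQCoh M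

/-- Quasi-coherent modules. -/
abbrev QC (X : Scheme.{u}) := ObjectProperty.FullSubcategory (fun M : X.Modules => Coh.IsQCoh M)

variable {X U : Scheme.{u}}

instance containsZero : ObjectProperty.ContainsZero (fun M : X.Modules => Coh.IsQCoh M) :=
  QCohSupX.containsZero X
instance closedKernels : ObjectProperty.IsClosedUnderKernels (fun M : X.Modules => Coh.IsQCoh M) :=
  QCohSupX.closedKernels X
instance closedCokernels : ObjectProperty.IsClosedUnderCokernels (fun M : X.Modules => Coh.IsQCoh M) :=
  QCohSupX.closedCokernels X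
instance closedFiniteProducts : ObjectProperty.IsClosedUnderFiniteProducts (fun M : X.Modules => Coh.IsQCoh M) :=
  QCohSupX.closedFiniteProducts X
instance preservesFiniteLimits_ι : PreservesFiniteLimits (ObjectProperty.ι (fun M : X.Modules => Coh.IsQCoh M)) :=
  QCohSupX.preservesFiniteLimits_ι X
instance preservesFiniteColimits_ι :
    PreservesFiniteColimits (ObjectProperty.ι (fun M : X.Modules => Coh.IsQCoh M)) :=
  have : PreservesColimitsOfSize.{u, u} (QCohCat.isQCoh X).ι := QCohSupX.preservesColimits_ι X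
  (inferInstance : PreservesFiniteColimits (QCohCat.isQCoh X).ι)
instance isGrothendieckAbelian_QC : IsGrothendieckAbelian.{u} (QC X) :=
  QCohSupX.isGrothendieckAbelian_qcoh X

/-- The inclusion. -/
abbrev inc (X : Scheme.{u}) : QC X ⥤ X.Modules := ObjectProperty.ι (fun M : X.Modules => Coh.IsQCoh M)

/-- The inclusion on derived categories. -/
abbrev incD (X : Scheme.{u}) : DerivedCategory (QC X) ⥤ DCoh.D X := (inc X).mapDerivedCategory

theorem exists_adj : ∃ R : DCoh.D X ⥤ DerivedCategory (QC X), Nonempty (incD X ⊣ R) := by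
  haveI : (inc X).IsLeftAdjoint := QCohSupX.isLeftAdjoint_ι X
  haveI := (Adjunction.ofIsLeftAdjoint (inc X)).right_adjoint_additive
  obtain ⟨R, a, -⟩ := H9Misc.ExactLeftAdj.exists_rightAdjoint (Adjunction.ofIsLeftAdjoint (inc X))
  exact ⟨R, ⟨a⟩⟩

lemma isQCohD_incD (M : DerivedCategory (QC X)) : DCoh.IsQCohD ((incD X).obj M) := fun i =>
  isQCoh_of_iso (CohD7.exists_homologyIso (inc X) M i).some.symm
    ((DerivedCategory.homologyFunctor (QC X) i).obj M).property

lemma isZero_of_isZero_incD {M : DerivedCategory (QC X)} (h : IsZero ((incD X).obj M)) : IsZero M := by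
  obtain ⟨T, hT⟩ : ∃ T, IsZero T := ⟨(0 : DerivedCategory (QC X)), isZero_zero _⟩
  have : IsIso (0 : M ⟶ T) := by
    rw [DerivedCategory.isIso_iff]
    intro i
    refine ⟨0, ?_, ((DerivedCategory.homologyFunctor (QC X) i).map_isZero hT).eq_of_src _ _⟩
    refine IsZero.eq_of_src ?_ _ _
    rw [IsZero.iff_id_eq_zero]
    refine (inc X).map_injective ?_
    rw [(inc X).map_id, (inc X).map_zero, ← IsZero.iff_id_eq_zero]
    exact IsZero.of_iso ((DerivedCategory.homologyFunctor X.Modules i).map_isZero h)
      (CohD7.exists_homologyIso (inc X) M i).some.symm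
  exact hT.of_iso (asIso (0 : M ⟶ T))

section Affine

variable (R : CommRingCat.{u})

/-- Quasi-coherent modules on an affine scheme are modules. -/
def tildeEquivQC : ModuleCat.{u} R ≌ QC (Spec R) := tildeEquiv (R := R)

instance : (tildeEquivQC R).functor.Additive :=
  Functor.additive_of_preserves_binary_products _
instance : (tildeEquivQC R).inverse.Additive :=
  Functor.additive_of_preserves_binary_products _

theorem full_faithful_incD_spec : (incD (Spec R)).Full ∧ (incD (Spec R)).Faithful ∧
    ∀ K : DCoh.D (Spec R), DCoh.IsQCohD K → ∃ M, Nonempty ((incD (Spec R)).obj M ≅ K) := by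
  haveI := Groth.Agent.QCoh.tilde_preservesFiniteLimits (R := R)
  haveI : (tilde.functor R).Additive := Functor.additive_of_preserves_binary_products _
  haveI : PreservesFiniteColimits (tilde.functor R) := Groth.Agent.QCoh.tilde_preservesFiniteColimits (R := R)
  let E := derivedEquivalence (tildeEquivQC R)
  let e : E.functor ⋙ incD (Spec R) ≅ DCoh.tildeD R :=
    mapDerivedComp (tildeEquivQC R).functor (inc (Spec R)) (tilde.functor R) (Iso.refl _)
  have hff : ∀ M N, Function.Bijective ((DCoh.tildeD R).map : (M ⟶ N) → _) := fun M N => tildeD_map_bijective M N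
  have hb : ∀ M N, Function.Bijective ((incD (Spec R)).map : (M ⟶ N) → _) := by
    intro M N
    let G := E.inverse
    let e' : incD (Spec R) ≅ G ⋙ DCoh.tildeD R :=
      (Functor.leftUnitor _).symm ≪≫ Functor.isoWhiskerRight E.counitIso.symm _ ≪≫
        Functor.associator _ _ _ ≪≫ Functor.isoWhiskerLeft _ e
    have h : ((incD (Spec R)).map : (M ⟶ N) → _) =
        ((e'.app M).homCongr (e'.app N)).symm ∘ (DCoh.tildeD R).map ∘ G.map := by
      funext f
      simp only [Function.comp_apply, Iso.homCongr_symm, Iso.symm_symm_eq, Iso.homCongr_apply]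
      have := NatIso.naturality_2 e' f
      simp only [Functor.comp_map] at this
      simp [← this]
    exact h ▸ (Equiv.bijective _).comp ((hff _ _).comp ((Functor.FullyFaithful.ofFullyFaithful G).map_bijective _ _))
  refine ⟨⟨fun f => (hb _ _).2 f⟩, ⟨fun h => (hb _ _).1 h⟩, fun K hK => ?_⟩
  obtain ⟨M, ⟨eM⟩⟩ := exists_tildeD_iso (R := R) hK
  exact ⟨E.functor.obj M, ⟨e.app M ≪≫ eM⟩⟩

end Affine

section Open

variable (j : U ⟶ X) [IsOpenImmersion j] [IsAffineHom j]

/-- Restriction of quasi-coherent modules. -/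
def qres : QC X ⥤ QC U :=
  ObjectProperty.lift _ (inc X ⋙ Scheme.Modules.restrictFunctor j) fun M => QCoh.isQCoh_restrict j M.property

/-- Direct image of quasi-coherent modules. -/
def qpush : QC U ⥤ QC X :=
  ObjectProperty.lift _ (inc U ⋙ Scheme.Modules.pushforward j) fun M => QCoh.isQCoh_pushforward j M.property

/-- Restriction is left adjoint to direct image. -/
def qadj : qres j ⊣ qpush j :=
  (Scheme.Modules.restrictAdjunction j).restrictFullyFaithful (iC := inc X) (iD := inc U)
    (ObjectProperty.fullyFaithfulι _) (ObjectProperty.fullyFaithfulι _) (Iso.refl _) (Iso.refl _)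

instance : (qpush j).Full where
  map_surjective {A B} f := ⟨ObjectProperty.homMk ((Scheme.Modules.pushforward j).preimage f.hom),
    ObjectProperty.hom_ext _ ((Scheme.Modules.pushforward j).map_preimage _)⟩

instance : (qpush j).Faithful where
  map_injective h := ObjectProperty.hom_ext _ ((Scheme.Modules.pushforward j).map_injective
    (congrArg (inc X).map h))

instance : (qres j).Additive :=
  ⟨fun {_ _ f g} => ObjectProperty.hom_ext _ ((Scheme.Modules.restrictFunctor j).map_add (f := f.hom) (g := g.hom))⟩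
instance : (qpush j).Additive :=
  ⟨fun {_ _ f g} => ObjectProperty.hom_ext _ ((Scheme.Modules.pushforward j).map_add (f := f.hom) (g := g.hom))⟩

instance : PreservesFiniteColimits (qres j) :=
  haveI : (qres j).IsLeftAdjoint := (qadj j).isLeftAdjoint
  inferInstance

instance : PreservesFiniteLimits (qpush j) :=
  haveI : (qpush j).IsRightAdjoint := (qadj j).isRightAdjoint
  inferInstance

instance : PreservesFiniteLimits (qres j) :=
  haveI : PreservesFiniteLimits (qres j ⋙ inc U) :=
    inferInstanceAs (PreservesFiniteLimits (inc X ⋙ Scheme.Modules.restrictFunctor j))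
  ⟨fun J _ _ => preservesLimitsOfShape_of_reflects_of_preserves (qres j) (inc U)⟩

instance : (qpush j).PreservesEpimorphisms where
  preserves {A B} f _ := by
    haveI : Epi ((inc U).map f) := inferInstance
    suffices Epi ((inc X).map ((qpush j).map f)) from (inc X).epi_of_epi_map this
    refine Preadditive.epi_of_cancel_zero _ fun {T} q hq => eq_zero_of_secObj _ fun V hV s => ?_
    let S : ShortComplex U.Modules := ShortComplex.mk ((inc U).map f) (0 : B.obj ⟶ B.obj) comp_zero
    have hS : S.Exact := (ShortComplex.exact_iff_epi S rfl).2 inferInstance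
    obtain ⟨y, hy⟩ := exists_secLift_exact hS A.property B.property (hV.preimage j)
      (secPushEquiv j V _ s) comp_zero
    have h : (secPushEquiv j V A.obj).symm y ≫ (Scheme.Modules.pushforward j).map f.hom = s := by
      refine (secPushEquiv j V _).injective ?_
      rw [secPushEquiv_naturality, Equiv.apply_symm_apply]
      exact hy
    rw [← h, Category.assoc]
    exact (congrArg (_ ≫ ·) hq).trans comp_zero

instance : PreservesFiniteColimits (qpush j) := by
  haveI := Functor.preservesHomology_of_preservesEpis_and_kernels (qpush j)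
  exact Functor.preservesFiniteColimits_of_preservesHomology _

/-- The derived adjunction. -/
def qadjD : (qres j).mapDerivedCategory ⊣ (qpush j).mapDerivedCategory :=
  H9Misc.TelLocal.derivedAdjunction (qadj j)

instance : IsIso (qadjD j).counit := by
  haveI : IsIso (qadj j).counit := inferInstance
  exact (qadjD j).isIso_counit_of_iso
    (mapDerivedComp (qpush j) (qres j) _ (Iso.refl _) ≪≫ mapDerivedId (qpush j ⋙ qres j) (asIso (qadj j).counit))

/-- Restriction commutes with the inclusion. -/
def incRho : incD X ⋙ rho j ≅ (qres j).mapDerivedCategory ⋙ incD U :=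
  mapDerivedComp (inc X) (Scheme.Modules.restrictFunctor j) (inc X ⋙ Scheme.Modules.restrictFunctor j)
    (Iso.refl _) ≪≫
  (mapDerivedComp (qres j) (inc U) (inc X ⋙ Scheme.Modules.restrictFunctor j) (Iso.refl _)).symm

theorem nonempty_incD_qpush [DCoh.HasRpush j] (L : DerivedCategory (QC U)) :
    Nonempty ((incD X).obj ((qpush j).mapDerivedCategory.obj L) ≅ (DCoh.Rpush j).obj ((incD U).obj L)) := by
  let K := DerivedCategory.Q.objPreimage L
  let eL : DerivedCategory.Q.obj K ≅ L := DerivedCategory.Q.objObjPreimageIso L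
  let F := ((inc U).mapHomologicalComplex (ComplexShape.up ℤ)).obj K
  haveI := KFlatLib.isIso_unit_of_isAffineHom j F (fun n => (K.X n).property)
  let e1 : (incD X).obj ((qpush j).mapDerivedCategory.obj (DerivedCategory.Q.obj K)) ≅
      DerivedCategory.Q.obj (((Scheme.Modules.pushforward j).mapHomologicalComplex (ComplexShape.up ℤ)).obj F) :=
    (incD X).mapIso ((qpush j).mapDerivedCategoryFactors.app K) ≪≫
      (inc X).mapDerivedCategoryFactors.app _
  let e2 : DerivedCategory.Q.obj (((Scheme.Modules.pushforward j).mapHomologicalComplex (ComplexShape.up ℤ)).obj F) ≅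
      (DCoh.Rpush j).obj (DerivedCategory.Qh.obj ((HomotopyCategory.quotient _ _).obj F)) :=
    ((DerivedCategory.quotientCompQhIso X.Modules).app _).symm ≪≫
      asIso (((DCoh.pushKh j).totalRightDerivedUnit DerivedCategory.Qh
        (HomotopyCategory.quasiIso U.Modules (ComplexShape.up ℤ))).app
          ((HomotopyCategory.quotient U.Modules (ComplexShape.up ℤ)).obj F))
  exact ⟨((incD X).mapIso ((qpush j).mapDerivedCategory.mapIso eL)).symm ≪≫ e1 ≪≫ e2 ≪≫
    (DCoh.Rpush j).mapIso ((DerivedCategory.quotientCompQhIso U.Modules).app F ≪≫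
      ((inc U).mapDerivedCategoryFactors.app K).symm ≪≫ (incD U).mapIso eL)⟩

theorem bijective_into_qpush [DCoh.HasRpush j] [(incD U).Full] [(incD U).Faithful]
    (L : DerivedCategory (QC U)) (N : DerivedCategory (QC X)) :
    Function.Bijective ((incD X).map : (N ⟶ (qpush j).mapDerivedCategory.obj L) → _) := by
  obtain ⟨e⟩ := nonempty_incD_qpush j L
  haveI := isIso_unit_of_iso (qadjD j) L (Iso.refl ((qpush j).mapDerivedCategory.obj L))
  haveI := isIso_unit_of_iso (adjR j) _ e.symm
  exact bijective_of_square (incD X) (qres j).mapDerivedCategory (rho j) (incD U) (incRho j) N _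
    (bijective_map_of_isIso_unit (qadjD j) _ _) (bijective_map_of_isIso_unit (adjR j) _ _)

end Open

/-- Affine charts of a quasi-compact scheme with affine diagonal. -/
theorem exists_charts (X : Scheme.{u}) [CompactSpace X]
    (hdiag : ∀ U V : X.Opens, IsAffineOpen U → IsAffineOpen V → IsAffineOpen (U ⊓ V)) :
    ∃ (n : ℕ) (R : Fin n → CommRingCat.{u}) (j : ∀ i, Spec (R i) ⟶ X),
      (∀ i, IsOpenImmersion (j i)) ∧ (∀ i, IsAffineHom (j i)) ∧ ∀ x : X, ∃ i, x ∈ Set.range (j i).base := by
  obtain ⟨s, hs, hsfin, hsU⟩ := X.isBasis_affineOpens.exists_finite_of_isCompact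
    (U := ⊤) CompactSpace.isCompact_univ
  haveI := hsfin.to_subtype
  obtain ⟨n, ⟨f⟩⟩ := Finite.exists_equiv_fin s
  refine ⟨n, fun i => Γ(X, (f.symm i).1), fun i => (hs (f.symm i).2).fromSpec, fun i => inferInstance,
    fun i => ⟨fun W hW => ?_⟩, fun x => ?_⟩
  · let j := (hs (f.symm i).2).fromSpec
    have h : j ⁻¹ᵁ W = j ⁻¹ᵁ (j.opensRange ⊓ W) := by
      ext y
      simp
    rw [h]
    refine IsAffineOpen.preimage_of_isOpenImmersion (hdiag _ _ ?_ hW) j inf_le_left
    rw [IsAffineOpen.opensRange_fromSpec]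
    exact hs (f.symm i).2
  · obtain ⟨V, hV, hxV⟩ := TopologicalSpace.Opens.mem_sSup.1 ((SetLike.ext_iff.1 hsU x).1 trivial)
    refine ⟨f ⟨V, hV⟩, ?_⟩
    rw [IsAffineOpen.range_fromSpec]
    simpa using hxV

section Main

variable [CompactSpace X] {n : ℕ} {R : Fin n → CommRingCat.{u}} (j : ∀ i, Spec (R i) ⟶ X)
  [∀ i, IsOpenImmersion (j i)] [∀ i, IsAffineHom (j i)] (hcov : ∀ x : X, ∃ i, x ∈ Set.range (j i).base)

/-- Vanishing on the first `k` charts. -/
def ZeroOn (k : ℕ) (K : DCoh.D X) : Prop := ∀ i : Fin n, (i : ℕ) < k → IsZero ((rho (j i)).obj K)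

include hcov in
lemma isZero_of_zeroOn {K : DCoh.D X} (h : ZeroOn j n K) : IsZero K :=
  isZero_of_supp_empty (supp_iff.2 fun x _ i => by
    obtain ⟨a, ha⟩ := hcov x
    exact supp_iff.1 ((isZero_rho_iff (j a) K).1 (h a a.2)) x (fun hc => hc ha) i)

lemma zeroOn_succ {K C : DCoh.D X} {W : DCoh.D X} {f : K ⟶ W} {g : W ⟶ C} {d : C ⟶ K⟦(1 : ℤ)⟧}
    (hT : Triangle.mk f g d ∈ distTriang _) (k : Fin n) (hK : ZeroOn j k K) (hW : ZeroOn j k W)
    (hk : IsZero ((rho (j k)).obj C)) : ZeroOn j ((k : ℕ) + 1) C := by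
  intro i hi
  rcases Nat.lt_succ_iff_lt_or_eq.1 hi with h | h
  · exact (isZero_rho_iff _ _).2 (supp_obj₃ hT ((isZero_rho_iff _ _).1 (hK i h)) ((isZero_rho_iff _ _).1 (hW i h)))
  · rwa [show i = k from Fin.ext h]

lemma zeroOn_rpush (k : Fin n) {m : ℕ} {K : DCoh.D X} (hK : ZeroOn j m K) [DCoh.HasRpush (j k)] :
    ZeroOn j m ((DCoh.Rpush (j k)).obj ((rho (j k)).obj K)) := fun i hi =>
  (isZero_rho_iff _ _).2 (supp_rpush (j k) ((j i).isOpenEmbedding.isOpen_range.isClosed_compl)
    (Supp.rho (j k) ((isZero_rho_iff _ _).1 (hK i hi))))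

include hcov in
theorem isIso_unit {G : DCoh.D X ⥤ DerivedCategory (QC X)} (adj : incD X ⊣ G)
    (M : DerivedCategory (QC X)) : IsIso (adj.unit.app M) := by
  suffices ∀ (m : ℕ), m ≤ n → ∀ (M : DerivedCategory (QC X)), ZeroOn j (n - m) ((incD X).obj M) →
      IsIso (adj.unit.app M) from
    this n le_rfl M fun i hi => absurd hi (by omega)
  intro m
  induction m with
  | zero =>
    intro _ M hM
    have hz := isZero_of_zeroOn j hcov hM
    haveI := adj.right_adjoint_additive
    exact ⟨0, (isZero_of_isZero_incD hz).eq_of_src _ _, (G.map_isZero hz).eq_of_src _ _⟩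
  | succ m ih =>
    intro hm M hM
    let k : Fin n := ⟨n - (m + 1), by omega⟩
    haveI := hasRpush_scheme (j k)
    haveI := (full_faithful_incD_spec (R k)).1
    haveI := (full_faithful_incD_spec (R k)).2.1
    let a := qadjD (j k)
    obtain ⟨C, g, d, hT⟩ := distinguished_cocone_triangle (a.unit.app M)
    let L := (qres (j k)).mapDerivedCategory.obj M
    have h2 : IsIso (adj.unit.app ((qpush (j k)).mapDerivedCategory.obj L)) :=
      isIso_unit_of_bijective adj _ (bijective_into_qpush (j k) L)
    have h3 : IsIso (adj.unit.app C) := by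
      refine ih (by omega) C ?_
      rw [show n - m = (k : ℕ) + 1 by simp only [k]; omega]
      refine zeroOn_succ j ((incD X).map_distinguished _ hT) k hM ?_ ?_
      · obtain ⟨e⟩ := nonempty_incD_qpush (j k) L
        intro i hi
        refine IsZero.of_iso (zeroOn_rpush j k hM i hi) ((rho (j i)).mapIso (e ≪≫
          (DCoh.Rpush (j k)).mapIso ((incRho (j k)).app M).symm))
      · have hu : IsIso ((qres (j k)).mapDerivedCategory.map (a.unit.app M)) :=
          @IsIso.of_isIso_fac_right _ _ _ _ _ _ _ _ inferInstance (IsIso.id _) (a.left_triangle_components M)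
        have hC : IsZero ((qres (j k)).mapDerivedCategory.obj C) :=
          (Triangle.isZero₃_iff_isIso₁ _ ((qres (j k)).mapDerivedCategory.map_distinguished _ hT)).2 hu
        exact IsZero.of_iso ((incD (Spec (R k))).map_isZero hC) ((incRho (j k)).app C)
    exact isIso_unit_obj₁ adj hT h2 h3

include hcov in
theorem exists_preimage [(incD X).Full] (K : DCoh.D X) (hK : DCoh.IsQCohD K) :
    ∃ M, Nonempty ((incD X).obj M ≅ K) := by
  suffices ∀ (m : ℕ), m ≤ n → ∀ (K : DCoh.D X), DCoh.IsQCohD K → ZeroOn j (n - m) K →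
      ∃ M, Nonempty ((incD X).obj M ≅ K) from
    this n le_rfl K hK fun i hi => absurd hi (by omega)
  intro m
  induction m with
  | zero =>
    intro _ K _ h0
    exact ⟨0, ⟨((incD X).map_isZero (isZero_zero _)).iso (isZero_of_zeroOn j hcov h0)⟩⟩
  | succ m ih =>
    intro hm K hK h0
    let k : Fin n := ⟨n - (m + 1), by omega⟩
    haveI := hasRpush_scheme (j k)
    obtain ⟨C, g, d, hT, hC⟩ := exists_unit_triangle (j k) K
    have hW : DCoh.IsQCohD ((DCoh.Rpush (j k)).obj ((rho (j k)).obj K)) :=
      isQCohD_rpush (j k) (isQCohD_rho (j k) hK)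
    obtain ⟨M₃, ⟨e₃⟩⟩ := ih (by omega) C (isQCohD_obj₃ hT hK hW) (by
      rw [show n - m = (k : ℕ) + 1 by simp only [k]; omega]
      exact zeroOn_succ j hT k h0 (zeroOn_rpush j k h0) ((isZero_rho_iff _ _).2 hC))
    obtain ⟨L, ⟨eL⟩⟩ := (full_faithful_incD_spec (R k)).2.2 _ (isQCohD_rho (j k) hK)
    obtain ⟨e⟩ := nonempty_incD_qpush (j k) L
    exact exists_preimage_obj₁ (F := incD X) hT (e ≪≫ (DCoh.Rpush (j k)).mapIso eL) e₃

end Main

/-- The equivalence `D(QCoh X) ≌ D_QCoh(X)`. -/
theorem full_faithful_incD (X : Scheme.{u}) [CompactSpace X]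
    (hdiag : ∀ U V : X.Opens, IsAffineOpen U → IsAffineOpen V → IsAffineOpen (U ⊓ V)) :
    (incD X).Full ∧ (incD X).Faithful ∧
      ∀ K : DCoh.D X, DCoh.IsQCohD K ↔ ∃ M, Nonempty ((incD X).obj M ≅ K) := by
  obtain ⟨n, R, j, h1, h2, hcov⟩ := exists_charts X hdiag
  obtain ⟨G, ⟨adj⟩⟩ := exists_adj (X := X)
  have hu := isIso_unit j hcov adj
  haveI : IsIso adj.unit := NatIso.isIso_of_isIso_app _
  have hff := adj.fullyFaithfulLOfIsIsoUnit
  haveI := hff.full
  refine ⟨hff.full, hff.faithful, fun K => ⟨exists_preimage j hcov K, ?_⟩⟩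
  rintro ⟨M, ⟨e⟩⟩ i
  exact isQCoh_of_iso ((DerivedCategory.homologyFunctor X.Modules i).mapIso e) (isQCohD_incD M i)

end Groth.Agent.QCohEquiv7
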