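import Groth.Agent.QCohEquiv7.Main
import Groth.Agent.QCohEquiv7.Flasque
import Groth.Agent.InjQCoh7.Embed
import Groth.Agent.KFlatLib.Scheme.Adjoint
import Groth.Agent.H9Misc.ExactLeftAdj

/-! `D(QCoh X) ≌ D_QCoh(X)` for Noetherian schemes. -/

set_option autoImplicit false
set_option linter.style.haveILetI false
set_option backward.isDefEq.respectTransparency false
set_option backward.isDefEq.respectTransparency.types false
set_option maxHeartbeats 1000000

universe u

open CategoryTheory CategoryTheory.Limits AlgebraicGeometry Pretriangulated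
open scoped ZeroObject

attribute [local instance] HasDerivedCategory.standard

noncomputable section

namespace Groth.Agent.QCohEquiv7.Noeth

open Groth.Agent.KFlatLib Groth.Agent.PerfGen7

variable {X U : Scheme.{u}}

/-- An injective quasi-coherent module is an injective module on a Noetherian scheme. -/
lemma injective_inc [IsNoetherian X] (M : QC X) [Injective M] : Injective M.obj := by
  obtain ⟨E, f, hf, hE, hEi⟩ := InjQCoh7.exists_mono_injective M.property
  haveI := hf
  haveI := hEi
  let f' : M ⟶ (⟨E, hE⟩ : QC X) := ObjectProperty.homMk f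
  haveI : Mono ((inc X).map f') := hf
  haveI : Mono f' := (inc X).mono_of_mono_map this
  let r := Injective.factorThru (𝟙 M) f'
  exact Retract.injective ⟨f, r.hom, congrArg InducedCategory.Hom.hom (Injective.comp_factorThru (𝟙 M) f')⟩

section Open

variable (j : U ⟶ X) [IsOpenImmersion j] [QuasiCompact j]

/-- Restriction of quasi-coherent modules. -/
def qres : QC X ⥤ QC U :=
  ObjectProperty.lift _ (inc X ⋙ Scheme.Modules.restrictFunctor j) fun M => QCoh.isQCoh_restrict j M.property

/-- Direct image of quasi-coherent modules. -/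
def qpush : QC U ⥤ QC X :=
  ObjectProperty.lift _ (inc U ⋙ Scheme.Modules.pushforward j) fun M => QCoh.isQCoh_pushforward j M.property

/-- Restriction is left adjoint to direct image. -/
def qadj : qres j ⊣ qpush j :=
  (Scheme.Modules.restrictAdjunction j).restrictFullyFaithful (iC := inc X) (iD := inc U)
    (ObjectProperty.fullyFaithfulι _) (ObjectProperty.fullyFaithfulι _) (Iso.refl _) (Iso.refl _)

instance : (qpush j).Full where
  map_surjective {A B} f := ⟨ObjectProperty.homMk ((Scheme.Modules.pushforward j).preimage f.hom),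
    ObjectProperty.hom_ext _ ((Scheme.Modules.pushforward j).map_preimage _)⟩

instance : (qpush j).Faithful where
  map_injective h := ObjectProperty.hom_ext _ ((Scheme.Modules.pushforward j).map_injective
    (congrArg (inc X).map h))

instance : (qres j).Additive :=
  ⟨fun {_ _ f g} => ObjectProperty.hom_ext _ ((Scheme.Modules.restrictFunctor j).map_add (f := f.hom) (g := g.hom))⟩
instance : (qpush j).Additive :=
  ⟨fun {_ _ f g} => ObjectProperty.hom_ext _ ((Scheme.Modules.pushforward j).map_add (f := f.hom) (g := g.hom))⟩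

instance : PreservesFiniteColimits (qres j) :=
  haveI : (qres j).IsLeftAdjoint := (qadj j).isLeftAdjoint
  inferInstance

instance : PreservesFiniteLimits (qres j) :=
  haveI : PreservesFiniteLimits (qres j ⋙ inc U) :=
    inferInstanceAs (PreservesFiniteLimits (inc X ⋙ Scheme.Modules.restrictFunctor j))
  ⟨fun J _ _ => preservesLimitsOfShape_of_reflects_of_preserves (qres j) (inc U)⟩

lemma qh_isLeftAdjoint (U : Scheme.{u}) : (DerivedCategory.Qh (C := QC U)).IsLeftAdjoint :=
  TriCat.qh_isLeftAdjoint_of_exists_resolution fun L => by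
    obtain ⟨I, f, hI, hf, -, -⟩ := TriCat.exists_kInjective_resolution'.{u} L
    exact ⟨I, f, hI, hf⟩

/-- The adjunction defining K-injective resolutions. -/
def adjQ (U : Scheme.{u}) : DerivedCategory.Qh (C := QC U) ⊣
    (haveI := qh_isLeftAdjoint U; (DerivedCategory.Qh (C := QC U)).rightAdjoint) :=
  haveI := qh_isLeftAdjoint U
  Adjunction.ofIsLeftAdjoint (DerivedCategory.Qh (C := QC U))

/-- The derived direct image of quasi-coherent modules. -/
def qpushD : DerivedCategory (QC U) ⥤ DerivedCategory (QC X) :=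
  haveI := qh_isLeftAdjoint U
  ((DerivedCategory.Qh (C := QC U)).rightAdjoint ⋙ (qpush j).mapHomotopyCategory (ComplexShape.up ℤ)) ⋙
    DerivedCategory.Qh

/-- The derived adjunction. -/
def qadjD : (qres j).mapDerivedCategory ⊣ qpushD j :=
  H9Misc.ExactLeftAdj.descend DerivedCategory.Qh (HomotopyCategory.quasiIso (QC X) (ComplexShape.up ℤ))
    (qres j).mapDerivedCategory _
    ((((KFlatLib.adjHtpy (ComplexShape.up ℤ) (qadj j)).comp (adjQ U))).ofNatIsoLeft
      (qres j).mapDerivedCategoryFactorsh.symm)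

lemma isIso_adjQ_unit {U : Scheme.{u}} (I : CochainComplex (QC U) ℤ) [I.IsKInjective] :
    IsIso ((adjQ U).unit.app ((HomotopyCategory.quotient (QC U) (ComplexShape.up ℤ)).obj I)) := by
  let qI := (HomotopyCategory.quotient (QC U) (ComplexShape.up ℤ)).obj I
  refine isIso_iff_yoneda_map_bijective _ |>.2 fun A => ?_
  have hb := (((adjQ U).homEquiv A (DerivedCategory.Qh.obj qI)).bijective).comp
    (CochainComplex.IsKInjective.Qh_map_bijective A I)
  have h : (fun φ : A ⟶ qI => φ ≫ (adjQ U).unit.app qI) =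
      ((adjQ U).homEquiv A (DerivedCategory.Qh.obj qI)) ∘ DerivedCategory.Qh.map :=
    funext fun φ => ((adjQ U).unit.naturality φ).trans ((adjQ U).homEquiv_unit ..).symm
  exact h ▸ hb

/-- Every object is given by a K-injective complex with injective terms. -/
lemma exists_kinj_rep {U : Scheme.{u}} (L : DerivedCategory (QC U)) :
    ∃ (I : CochainComplex (QC U) ℤ), I.IsKInjective ∧ (∀ n, Injective (I.X n)) ∧
      Nonempty (DerivedCategory.Qh.obj ((HomotopyCategory.quotient (QC U) (ComplexShape.up ℤ)).obj I) ≅ L) := by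
  obtain ⟨I, f, hI, hf, -, hinj⟩ := TriCat.exists_kInjective_resolution'.{u} (DerivedCategory.Q.objPreimage L)
  exact ⟨I, hI, hinj, ⟨(DerivedCategory.quotientCompQhIso (QC U)).app I ≪≫ (asIso (DerivedCategory.Q.map f)).symm ≪≫
    DerivedCategory.Q.objObjPreimageIso L⟩⟩

lemma isIso_adjQ_counit {U : Scheme.{u}} (L : DerivedCategory (QC U)) : IsIso ((adjQ U).counit.app L) := by
  obtain ⟨I, hI, -, ⟨e⟩⟩ := exists_kinj_rep L
  haveI := isIso_adjQ_unit I
  have h : IsIso ((adjQ U).counit.app (DerivedCategory.Qh.obj ((HomotopyCategory.quotient (QC U) (ComplexShape.up ℤ)).obj I))) :=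
    @IsIso.of_isIso_fac_left _ _ _ _ _ _ _ _ inferInstance (IsIso.id _) ((adjQ U).left_triangle_components _)
  exact (NatTrans.isIso_app_iff_of_iso (adjQ U).counit e).1 h

instance : IsIso (qadjD j).counit := by
  haveI : IsIso (qadj j).counit := inferInstance
  haveI h1 : ∀ K, IsIso ((KFlatLib.adjHtpy (ComplexShape.up ℤ) (qadj j)).counit.app K) := fun K => by
    let f : ((qres j).mapHomologicalComplex (ComplexShape.up ℤ)).obj
        (((qpush j).mapHomologicalComplex (ComplexShape.up ℤ)).obj K.as) ⟶ K.as :=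
      { f := fun i => (qadj j).counit.app (K.as.X i)
        comm' := fun i k _ => ((qadj j).counit.naturality (K.as.d i k)).symm }
    haveI : ∀ i, IsIso (f.f i) := fun i => inferInstanceAs (IsIso ((qadj j).counit.app (K.as.X i)))
    haveI : IsIso f := HomologicalComplex.Hom.isIso_of_components f
    exact inferInstanceAs (IsIso ((HomotopyCategory.quotient (QC U) (ComplexShape.up ℤ)).map f))
  haveI h2 : ∀ L, IsIso ((adjQ U).counit.app L) := isIso_adjQ_counit
  haveI : ∀ M, IsIso ((qadjD j).counit.app M) := fun M => by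
    dsimp only [qadjD, H9Misc.ExactLeftAdj.descend]
    simp [Adjunction.ofNatIsoLeft, Adjunction.comp]
    infer_instance
  exact NatIso.isIso_of_isIso_app _

theorem nonempty_incD_qpush [IsNoetherian U] [DCoh.HasRpush j]
    (L : DerivedCategory (QC U)) :
    Nonempty ((incD X).obj ((qpushD j).obj L) ≅ (DCoh.Rpush j).obj ((incD U).obj L)) := by
  obtain ⟨K, hK, hinj, ⟨eL⟩⟩ := exists_kinj_rep L
  let F := ((inc U).mapHomologicalComplex (ComplexShape.up ℤ)).obj K
  haveI := isIso_rpushUnit_of_injective j F (fun n => (K.X n).property) fun n =>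
    haveI := hinj n
    injective_inc (K.X n)
  haveI := isIso_adjQ_unit K
  let e0 : (qpushD j).obj (DerivedCategory.Qh.obj ((HomotopyCategory.quotient (QC U) (ComplexShape.up ℤ)).obj K)) ≅
      DerivedCategory.Q.obj (((qpush j).mapHomologicalComplex (ComplexShape.up ℤ)).obj K) :=
    DerivedCategory.Qh.mapIso (((qpush j).mapHomotopyCategory (ComplexShape.up ℤ)).mapIso
      (asIso ((adjQ U).unit.app ((HomotopyCategory.quotient (QC U) (ComplexShape.up ℤ)).obj K))).symm ≪≫
        ((qpush j).mapHomotopyCategoryFactors (ComplexShape.up ℤ)).app K) ≪≫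
      (DerivedCategory.quotientCompQhIso (QC X)).app _
  let e1 : (incD X).obj (DerivedCategory.Q.obj (((qpush j).mapHomologicalComplex (ComplexShape.up ℤ)).obj K)) ≅
      DerivedCategory.Q.obj (((Scheme.Modules.pushforward j).mapHomologicalComplex (ComplexShape.up ℤ)).obj F) :=
    (inc X).mapDerivedCategoryFactors.app _
  let e2 : DerivedCategory.Q.obj (((Scheme.Modules.pushforward j).mapHomologicalComplex (ComplexShape.up ℤ)).obj F) ≅
      (DCoh.Rpush j).obj (DerivedCategory.Qh.obj ((HomotopyCategory.quotient _ _).obj F)) :=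
    ((DerivedCategory.quotientCompQhIso X.Modules).app _).symm ≪≫
      asIso (((DCoh.pushKh j).totalRightDerivedUnit DerivedCategory.Qh
        (HomotopyCategory.quasiIso U.Modules (ComplexShape.up ℤ))).app
          ((HomotopyCategory.quotient U.Modules (ComplexShape.up ℤ)).obj F))
  exact ⟨((incD X).mapIso ((qpushD j).mapIso eL)).symm ≪≫ (incD X).mapIso e0 ≪≫ e1 ≪≫ e2 ≪≫
    (DCoh.Rpush j).mapIso ((DerivedCategory.quotientCompQhIso U.Modules).app F ≪≫
      ((inc U).mapDerivedCategoryFactors.app K).symm ≪≫ (incD U).mapIso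
        (((DerivedCategory.quotientCompQhIso (QC U)).app K).symm ≪≫ eL))⟩

/-- Restriction commutes with the inclusion. -/
def incRho : incD X ⋙ rho j ≅ (qres j).mapDerivedCategory ⋙ incD U :=
  mapDerivedComp (inc X) (Scheme.Modules.restrictFunctor j) (inc X ⋙ Scheme.Modules.restrictFunctor j)
    (Iso.refl _) ≪≫
  (mapDerivedComp (qres j) (inc U) (inc X ⋙ Scheme.Modules.restrictFunctor j) (Iso.refl _)).symm

theorem bijective_into_qpush [IsNoetherian U] [DCoh.HasRpush j]
    [(incD U).Full] [(incD U).Faithful]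
    (L : DerivedCategory (QC U)) (N : DerivedCategory (QC X)) :
    Function.Bijective ((incD X).map : (N ⟶ (qpushD j).obj L) → _) := by
  obtain ⟨e⟩ := nonempty_incD_qpush j L
  haveI := isIso_unit_of_iso (qadjD j) L (Iso.refl ((qpushD j).obj L))
  haveI := isIso_unit_of_iso (adjR j) _ e.symm
  exact bijective_of_square (incD X) (qres j).mapDerivedCategory (rho j) (incD U) (incRho j) N _
    (bijective_map_of_isIso_unit (qadjD j) _ _) (bijective_map_of_isIso_unit (adjR j) _ _)

end Open

section Main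

variable [CompactSpace X] {n : ℕ} {R : Fin n → CommRingCat.{u}} (j : ∀ i, Spec (R i) ⟶ X)
  [∀ i, IsOpenImmersion (j i)] [∀ i, QuasiCompact (j i)] [∀ i, IsNoetherianRing (R i)] (hcov : ∀ x : X, ∃ i, x ∈ Set.range (j i).base)

/-- Vanishing on the first `k` charts. -/
def ZeroOn (k : ℕ) (K : DCoh.D X) : Prop := ∀ i : Fin n, (i : ℕ) < k → IsZero ((rho (j i)).obj K)

include hcov in
lemma isZero_of_zeroOn {K : DCoh.D X} (h : ZeroOn j n K) : IsZero K :=
  isZero_of_supp_empty (supp_iff.2 fun x _ i => by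
    obtain ⟨a, ha⟩ := hcov x
    exact supp_iff.1 ((isZero_rho_iff (j a) K).1 (h a a.2)) x (fun hc => hc ha) i)

lemma zeroOn_succ {K C : DCoh.D X} {W : DCoh.D X} {f : K ⟶ W} {g : W ⟶ C} {d : C ⟶ K⟦(1 : ℤ)⟧}
    (hT : Triangle.mk f g d ∈ distTriang _) (k : Fin n) (hK : ZeroOn j k K) (hW : ZeroOn j k W)
    (hk : IsZero ((rho (j k)).obj C)) : ZeroOn j ((k : ℕ) + 1) C := by
  intro i hi
  rcases Nat.lt_succ_iff_lt_or_eq.1 hi with h | h
  · exact (isZero_rho_iff _ _).2 (supp_obj₃ hT ((isZero_rho_iff _ _).1 (hK i h)) ((isZero_rho_iff _ _).1 (hW i h)))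
  · rwa [show i = k from Fin.ext h]

lemma zeroOn_rpush (k : Fin n) {m : ℕ} {K : DCoh.D X} (hK : ZeroOn j m K) [DCoh.HasRpush (j k)] :
    ZeroOn j m ((DCoh.Rpush (j k)).obj ((rho (j k)).obj K)) := fun i hi =>
  (isZero_rho_iff _ _).2 (supp_rpush (j k) ((j i).isOpenEmbedding.isOpen_range.isClosed_compl)
    (Supp.rho (j k) ((isZero_rho_iff _ _).1 (hK i hi))))

include hcov in
theorem isIso_unit {G : DCoh.D X ⥤ DerivedCategory (QC X)} (adj : incD X ⊣ G)
    (M : DerivedCategory (QC X)) : IsIso (adj.unit.app M) := by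
  suffices ∀ (m : ℕ), m ≤ n → ∀ (M : DerivedCategory (QC X)), ZeroOn j (n - m) ((incD X).obj M) →
      IsIso (adj.unit.app M) from
    this n le_rfl M fun i hi => absurd hi (by omega)
  intro m
  induction m with
  | zero =>
    intro _ M hM
    have hz := isZero_of_zeroOn j hcov hM
    haveI := adj.right_adjoint_additive
    exact ⟨0, (isZero_of_isZero_incD hz).eq_of_src _ _, (G.map_isZero hz).eq_of_src _ _⟩
  | succ m ih =>
    intro hm M hM
    let k : Fin n := ⟨n - (m + 1), by omega⟩
    haveI := hasRpush_scheme (j k)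
    haveI := (full_faithful_incD_spec (R k)).1
    haveI := (full_faithful_incD_spec (R k)).2.1
    let a := qadjD (j k)
    obtain ⟨C, g, d, hT⟩ := distinguished_cocone_triangle (a.unit.app M)
    let L := (qres (j k)).mapDerivedCategory.obj M
    have h2 : IsIso (adj.unit.app ((qpushD (j k)).obj L)) :=
      isIso_unit_of_bijective adj _ (bijective_into_qpush (j k) L)
    have h3 : IsIso (adj.unit.app C) := by
      refine ih (by omega) C ?_
      rw [show n - m = (k : ℕ) + 1 by simp only [k]; omega]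
      refine zeroOn_succ j ((incD X).map_distinguished _ hT) k hM ?_ ?_
      · obtain ⟨e⟩ := nonempty_incD_qpush (j k) L
        intro i hi
        refine IsZero.of_iso (zeroOn_rpush j k hM i hi) ((rho (j i)).mapIso (e ≪≫
          (DCoh.Rpush (j k)).mapIso ((incRho (j k)).app M).symm))
      · have hu : IsIso ((qres (j k)).mapDerivedCategory.map (a.unit.app M)) :=
          @IsIso.of_isIso_fac_right _ _ _ _ _ _ _ _ inferInstance (IsIso.id _) (a.left_triangle_components M)
        have hC : IsZero ((qres (j k)).mapDerivedCategory.obj C) :=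
          (Triangle.isZero₃_iff_isIso₁ _ ((qres (j k)).mapDerivedCategory.map_distinguished _ hT)).2 hu
        exact IsZero.of_iso ((incD (Spec (R k))).map_isZero hC) ((incRho (j k)).app C)
    exact isIso_unit_obj₁ adj hT h2 h3

include hcov in
theorem exists_preimage [(incD X).Full] (K : DCoh.D X) (hK : DCoh.IsQCohD K) :
    ∃ M, Nonempty ((incD X).obj M ≅ K) := by
  suffices ∀ (m : ℕ), m ≤ n → ∀ (K : DCoh.D X), DCoh.IsQCohD K → ZeroOn j (n - m) K →
      ∃ M, Nonempty ((incD X).obj M ≅ K) from
    this n le_rfl K hK fun i hi => absurd hi (by omega)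
  intro m
  induction m with
  | zero =>
    intro _ K _ h0
    exact ⟨0, ⟨((incD X).map_isZero (isZero_zero _)).iso (isZero_of_zeroOn j hcov h0)⟩⟩
  | succ m ih =>
    intro hm K hK h0
    let k : Fin n := ⟨n - (m + 1), by omega⟩
    haveI := hasRpush_scheme (j k)
    obtain ⟨C, g, d, hT, hC⟩ := exists_unit_triangle (j k) K
    have hW : DCoh.IsQCohD ((DCoh.Rpush (j k)).obj ((rho (j k)).obj K)) :=
      isQCohD_rpush (j k) (isQCohD_rho (j k) hK)
    obtain ⟨M₃, ⟨e₃⟩⟩ := ih (by omega) C (isQCohD_obj₃ hT hK hW) (by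
      rw [show n - m = (k : ℕ) + 1 by simp only [k]; omega]
      exact zeroOn_succ j hT k h0 (zeroOn_rpush j k h0) ((isZero_rho_iff _ _).2 hC))
    obtain ⟨L, ⟨eL⟩⟩ := (full_faithful_incD_spec (R k)).2.2 _ (isQCohD_rho (j k) hK)
    obtain ⟨e⟩ := nonempty_incD_qpush (j k) L
    exact exists_preimage_obj₁ (F := incD X) hT (e ≪≫ (DCoh.Rpush (j k)).mapIso eL) e₃

end Main

/-- The equivalence `D(QCoh X) ≌ D_QCoh(X)` for Noetherian `X`. -/
theorem full_faithful_incD (X : Scheme.{u}) [IsNoetherian X] :
    (incD X).Full ∧ (incD X).Faithful ∧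
      ∀ K : DCoh.D X, DCoh.IsQCohD K ↔ ∃ M, Nonempty ((incD X).obj M ≅ K) := by
  obtain ⟨s, hs, hsfin, hsU⟩ := X.isBasis_affineOpens.exists_finite_of_isCompact
    (U := ⊤) CompactSpace.isCompact_univ
  haveI := hsfin.to_subtype
  obtain ⟨n, ⟨f⟩⟩ := Finite.exists_equiv_fin s
  let R : Fin n → CommRingCat.{u} := fun i => Γ(X, (f.symm i).1)
  let j : ∀ i, Spec (R i) ⟶ X := fun i => (hs (f.symm i).2).fromSpec
  haveI : ∀ i, IsNoetherianRing (R i) := fun i =>
    IsLocallyNoetherian.component_noetherian ⟨_, hs (f.symm i).2⟩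
  haveI : ∀ i, IsOpenImmersion (j i) := fun i => inferInstance
  haveI : ∀ i, QuasiCompact (j i) := fun i => by
    rw [← (j i).liftCoborder_ι]
    infer_instance
  have hcov : ∀ x : X, ∃ i, x ∈ Set.range (j i).base := fun x => by
    obtain ⟨V, hV, hxV⟩ := TopologicalSpace.Opens.mem_sSup.1 ((SetLike.ext_iff.1 hsU x).1 trivial)
    refine ⟨f ⟨V, hV⟩, ?_⟩
    rw [IsAffineOpen.range_fromSpec]
    simpa using hxV
  obtain ⟨G, ⟨adj⟩⟩ := exists_adj (X := X)
  have hu := isIso_unit j hcov adj
  haveI : IsIso adj.unit := NatIso.isIso_of_isIso_app _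
  have hff := adj.fullyFaithfulLOfIsIsoUnit
  haveI := hff.full
  refine ⟨hff.full, hff.faithful, fun K => ⟨exists_preimage j hcov K, ?_⟩⟩
  rintro ⟨M, ⟨e⟩⟩ i
  exact isQCoh_of_iso ((DerivedCategory.homologyFunctor X.Modules i).mapIso e) (isQCohD_incD M i)

end Groth.Agent.QCohEquiv7.Noeth
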