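import Groth.Agent.QCohEquiv7.Noeth
import Groth.Agent.TriCat.DerivedOfAdjunction
import Groth.Agent.SiteBase.KInjAdj
import Groth.Agent.KFlatLib.Scheme.PushKInj

/-! Derived direct image on quasi-coherent modules. -/

set_option autoImplicit false
set_option linter.style.haveILetI false
set_option backward.isDefEq.respectTransparency false
set_option backward.isDefEq.respectTransparency.types false
set_option maxHeartbeats 1000000

universe u

open CategoryTheory CategoryTheory.Limits AlgebraicGeometry Pretriangulated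
open scoped ZeroObject

attribute [local instance] HasDerivedCategory.standard

noncomputable section

namespace Groth.Agent.QCohEquiv7

open Groth.Agent.KFlatLib Groth.Agent.PerfGen7

variable {X Y : Scheme.{u}}

lemma qhM_isLeftAdjoint (X : Scheme.{u}) : (DerivedCategory.Qh (C := X.Modules)).IsLeftAdjoint :=
  TriCat.qh_isLeftAdjoint_of_exists_resolution exists_kInjective_res

/-- K-injective resolutions of modules. -/
def adjM (X : Scheme.{u}) : DerivedCategory.Qh (C := X.Modules) ⊣
    (haveI := qhM_isLeftAdjoint X; (DerivedCategory.Qh (C := X.Modules)).rightAdjoint) :=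
  haveI := qhM_isLeftAdjoint X
  Adjunction.ofIsLeftAdjoint _

/-- The resolution functor on modules. -/
abbrev resM (X : Scheme.{u}) : DCoh.D X ⥤ HomotopyCategory X.Modules (ComplexShape.up ℤ) :=
  haveI := qhM_isLeftAdjoint X; (DerivedCategory.Qh (C := X.Modules)).rightAdjoint

/-- The resolution functor on quasi-coherent modules. -/
abbrev resQ (X : Scheme.{u}) : DerivedCategory (QC X) ⥤ HomotopyCategory (QC X) (ComplexShape.up ℤ) :=
  haveI := Noeth.qh_isLeftAdjoint X; (DerivedCategory.Qh (C := QC X)).rightAdjoint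

/-- The inclusion on homotopy categories. -/
abbrev incK (X : Scheme.{u}) : HomotopyCategory (QC X) (ComplexShape.up ℤ) ⥤
    HomotopyCategory X.Modules (ComplexShape.up ℤ) :=
  (inc X).mapHomotopyCategory (ComplexShape.up ℤ)

variable (f : X ⟶ Y)

/-- `f_*` of the quasi-coherent resolution maps to `Rf_*`. -/
def cmpQ : resQ X ⋙ incK X ⋙ DCoh.pushKh f ⟶
    resQ X ⋙ incK X ⋙ DerivedCategory.Qh ⋙ resM X ⋙ DCoh.pushKh f :=
  Functor.whiskerLeft (resQ X ⋙ incK X) (Functor.whiskerRight (adjM X).unit (DCoh.pushKh f))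

/-- The resolution by injective quasi-coherent modules computes `Rf_*` at `L`. -/
def Good (L : DerivedCategory (QC X)) : Prop := IsIso ((cmpQ f).app L)

lemma good_of_iso {L L' : DerivedCategory (QC X)} (e : L ≅ L') (h : Good f L) : Good f L' :=
  (NatTrans.isIso_app_iff_of_iso (cmpQ f) e).1 h

lemma isTriangulated_resM (X : Scheme.{u}) :
    letI := (adjM X).rightAdjointCommShift ℤ
    (resM X).IsTriangulated := by
  letI := (adjM X).rightAdjointCommShift ℤ
  haveI : (adjM X).CommShift ℤ := (adjM X).commShift_of_leftAdjoint ℤ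
  exact (adjM X).isTriangulated_rightAdjoint

lemma good_obj₁ {T : Triangle (DerivedCategory (QC X))} (hT : T ∈ distTriang _)
    (h₂ : Good f T.obj₂) (h₃ : Good f T.obj₃) : Good f T.obj₁ := by
  letI := (adjM X).rightAdjointCommShift ℤ
  haveI : (adjM X).CommShift ℤ := (adjM X).commShift_of_leftAdjoint ℤ
  haveI := (adjM X).isTriangulated_rightAdjoint
  letI : (resQ X).CommShift ℤ := (Noeth.adjQ X).rightAdjointCommShift ℤ
  haveI : (Noeth.adjQ X).CommShift ℤ := (Noeth.adjQ X).commShift_of_leftAdjoint ℤ
  haveI : (resQ X).IsTriangulated := (Noeth.adjQ X).isTriangulated_rightAdjoint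
  let S := (resQ X ⋙ incK X).mapTriangle.obj T
  have hS : S ∈ distTriang _ := (resQ X ⋙ incK X).map_distinguished T hT
  let φ : S ⟶ (DerivedCategory.Qh ⋙ resM X).mapTriangle.obj S :=
    Triangle.homMk _ _ ((adjM X).unit.app _) ((adjM X).unit.app _) ((adjM X).unit.app _)
      ((adjM X).unit.naturality _) ((adjM X).unit.naturality _) (by
        have h1 := NatTrans.shift_app_comm (adjM X).unit (1 : ℤ) S.obj₁
        rw [Functor.commShiftIso_id_hom_app] at h1
        erw [Category.id_comp] at h1
        show S.mor₃ ≫ _ = (adjM X).unit.app S.obj₃ ≫ (DerivedCategory.Qh ⋙ resM X).map S.mor₃ ≫ _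
        erw [h1]
        exact (Category.assoc _ _ _).symm.trans ((congrArg (· ≫ _) ((adjM X).unit.naturality S.mor₃)).trans
          (Category.assoc _ _ _)))
  exact isIso₁_of_isIso₂₃ ((DCoh.pushKh f).mapTriangle.map φ) ((DCoh.pushKh f).map_distinguished S hS)
    ((DCoh.pushKh f).map_distinguished _ ((DerivedCategory.Qh ⋙ resM X).map_distinguished S hS)) h₂ h₃

lemma good_of_isZero {L : DerivedCategory (QC X)} (h : IsZero L) : Good f L := by
  haveI := (Noeth.adjQ X).right_adjoint_additive
  haveI := (adjM X).right_adjoint_additive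
  have h1 : IsZero ((incK X).obj ((resQ X).obj L)) := (incK X).map_isZero ((resQ X).map_isZero h)
  exact ⟨0, ((DCoh.pushKh f).map_isZero h1).eq_of_src _ _,
    ((DCoh.pushKh f).map_isZero ((resM X).map_isZero (DerivedCategory.Qh.map_isZero h1))).eq_of_src _ _⟩

/-- At a complex of modules, the derived unit is the resolution followed by an isomorphism. -/
lemma isIso_push_unit_iff [DCoh.HasRpush f] (Q : HomotopyCategory X.Modules (ComplexShape.up ℤ)) :
    IsIso ((DCoh.pushKh f).map ((adjM X).unit.app Q)) ↔
      IsIso (((DCoh.pushKh f).totalRightDerivedUnit DerivedCategory.Qh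
        (HomotopyCategory.quasiIso X.Modules (ComplexShape.up ℤ))).app Q) := by
  let W := HomotopyCategory.quasiIso X.Modules (ComplexShape.up ℤ)
  haveI : (resM X ⋙ DCoh.pushKh f).IsRightDerivedFunctor
      (Functor.whiskerRight (adjM X).unit (DCoh.pushKh f)) W :=
    TriCat.isRightDerivedFunctor_of_adjunction (adjM X) W (DCoh.pushKh f)
  let e : resM X ⋙ DCoh.pushKh f ≅ DCoh.Rpush f :=
    Functor.rightDerivedUnique _ _ (Functor.whiskerRight (adjM X).unit (DCoh.pushKh f))
      ((DCoh.pushKh f).totalRightDerivedUnit DerivedCategory.Qh W) W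
  have h : ((DCoh.pushKh f).totalRightDerivedUnit DerivedCategory.Qh W).app Q =
      (DCoh.pushKh f).map ((adjM X).unit.app Q) ≫ e.hom.app (DerivedCategory.Qh.obj Q) :=
    ((Functor.rightDerivedNatTrans_app (resM X ⋙ DCoh.pushKh f) (DCoh.Rpush f)
      (Functor.whiskerRight (adjM X).unit (DCoh.pushKh f))
      ((DCoh.pushKh f).totalRightDerivedUnit DerivedCategory.Qh W) W (𝟙 _) Q).trans (Category.id_comp _)).symm
  rw [h]
  exact (isIso_comp_right_iff _ _).symm

lemma good_of_complex [DCoh.HasRpush f] (K : CochainComplex (QC X) ℤ) [K.IsKInjective]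
    (h : IsIso (((DCoh.pushKh f).totalRightDerivedUnit DerivedCategory.Qh
      (HomotopyCategory.quasiIso X.Modules (ComplexShape.up ℤ))).app
        ((HomotopyCategory.quotient X.Modules (ComplexShape.up ℤ)).obj
          (((inc X).mapHomologicalComplex (ComplexShape.up ℤ)).obj K)))) :
    Good f (DerivedCategory.Qh.obj ((HomotopyCategory.quotient (QC X) (ComplexShape.up ℤ)).obj K)) := by
  haveI := Noeth.isIso_adjQ_unit K
  have h' := (isIso_push_unit_iff f _).2 h
  let e : (incK X).obj ((resQ X).obj (DerivedCategory.Qh.obj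
      ((HomotopyCategory.quotient (QC X) (ComplexShape.up ℤ)).obj K))) ≅
      (HomotopyCategory.quotient X.Modules (ComplexShape.up ℤ)).obj
        (((inc X).mapHomologicalComplex (ComplexShape.up ℤ)).obj K) :=
    (incK X).mapIso (asIso ((Noeth.adjQ X).unit.app _)).symm ≪≫
      ((inc X).mapHomotopyCategoryFactors (ComplexShape.up ℤ)).app K
  exact (NatTrans.isIso_app_iff_of_iso (Functor.whiskerRight (adjM X).unit (DCoh.pushKh f)) e).2 h'

section Comparison

variable (hf : ∀ M : X.Modules, Coh.IsQCoh M → Coh.IsQCoh ((Scheme.Modules.pushforward f).obj M))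

/-- Direct image of quasi-coherent modules. -/
abbrev pushQ : QC X ⥤ QC Y :=
  ObjectProperty.lift (fun M : Y.Modules => Coh.IsQCoh M)
    (ObjectProperty.ι (fun M : X.Modules => Coh.IsQCoh M) ⋙ Scheme.Modules.pushforward f)
    (fun M => hf M.obj M.property)

/-- Direct image commutes with the inclusions. -/
def pushIncK [(pushQ f hf).Additive] :
    (pushQ f hf).mapHomotopyCategory (ComplexShape.up ℤ) ⋙ incK Y ≅
      incK X ⋙ (Scheme.Modules.pushforward f).mapHomotopyCategory (ComplexShape.up ℤ) :=
  NatIso.ofComponents (fun _ => Iso.refl _) (fun {K L} a => by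
    obtain ⟨a, rfl⟩ := (HomotopyCategory.quotient _ _).map_surjective a
    exact (Category.comp_id _).trans (Category.id_comp _).symm)

/-- `Φ ⋙ incD ≅ incD ⋙ Rf_*` when every object is good. -/
theorem nonempty_push_square [DCoh.HasRpush f] [(pushQ f hf).Additive]
    [((pushQ f hf).mapHomotopyCategory (ComplexShape.up ℤ) ⋙ DerivedCategory.Qh).HasRightDerivedFunctor
      (HomotopyCategory.quasiIso (QC X) (ComplexShape.up ℤ))]
    (hg : ∀ L : DerivedCategory (QC X), Good f L) :
    Nonempty (((pushQ f hf).mapHomotopyCategory (ComplexShape.up ℤ) ⋙ DerivedCategory.Qh).totalRightDerived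
      DerivedCategory.Qh (HomotopyCategory.quasiIso (QC X) (ComplexShape.up ℤ)) ⋙ incD Y ≅
        incD X ⋙ DCoh.Rpush f) := by
  let F := (pushQ f hf).mapHomotopyCategory (ComplexShape.up ℤ) ⋙ DerivedCategory.Qh
  let W := HomotopyCategory.quasiIso (QC X) (ComplexShape.up ℤ)
  let W' := HomotopyCategory.quasiIso X.Modules (ComplexShape.up ℤ)
  haveI : (resQ X ⋙ F).IsRightDerivedFunctor (Functor.whiskerRight (Noeth.adjQ X).unit F) W :=
    TriCat.isRightDerivedFunctor_of_adjunction (Noeth.adjQ X) W F
  let e : resQ X ⋙ F ≅ F.totalRightDerived DerivedCategory.Qh W :=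
    Functor.rightDerivedUnique _ _ (Functor.whiskerRight (Noeth.adjQ X).unit F)
      (F.totalRightDerivedUnit DerivedCategory.Qh W) W
  haveI : (resM X ⋙ DCoh.pushKh f).IsRightDerivedFunctor
      (Functor.whiskerRight (adjM X).unit (DCoh.pushKh f)) W' :=
    TriCat.isRightDerivedFunctor_of_adjunction (adjM X) W' (DCoh.pushKh f)
  let e' : resM X ⋙ DCoh.pushKh f ≅ DCoh.Rpush f :=
    Functor.rightDerivedUnique _ _ (Functor.whiskerRight (adjM X).unit (DCoh.pushKh f))
      ((DCoh.pushKh f).totalRightDerivedUnit DerivedCategory.Qh W') W'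
  haveI : ∀ L, IsIso ((cmpQ f).app L) := hg
  haveI : IsIso (cmpQ f) := NatIso.isIso_of_isIso_app _
  haveI : IsIso (Noeth.adjQ X).counit := by
    haveI : ∀ L, IsIso ((Noeth.adjQ X).counit.app L) := Noeth.isIso_adjQ_counit
    exact NatIso.isIso_of_isIso_app _
  exact ⟨Functor.isoWhiskerRight e.symm (incD Y) ≪≫
    Functor.isoWhiskerLeft (resQ X) (Functor.associator _ _ _ ≪≫
      Functor.isoWhiskerLeft _ (inc Y).mapDerivedCategoryFactorsh ≪≫ (Functor.associator _ _ _).symm ≪≫
      Functor.isoWhiskerRight (pushIncK f hf) DerivedCategory.Qh ≪≫ Functor.associator _ _ _) ≪≫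
    asIso (cmpQ f) ≪≫
    Functor.isoWhiskerLeft (resQ X) ((Functor.associator _ _ _).symm ≪≫
      Functor.isoWhiskerRight (inc X).mapDerivedCategoryFactorsh.symm (resM X ⋙ DCoh.pushKh f) ≪≫
      Functor.associator _ _ _) ≪≫
    (Functor.associator _ _ _).symm ≪≫
    Functor.isoWhiskerRight (asIso (Noeth.adjQ X).counit) _ ≪≫ Functor.leftUnitor _ ≪≫
    Functor.isoWhiskerLeft (incD X) e'⟩

end Comparison

/-- On a Noetherian scheme every object is good. -/
theorem good_noetherian [IsNoetherian X] [DCoh.HasRpush f] [QuasiCompact f] (L : DerivedCategory (QC X)) :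
    Good f L := by
  obtain ⟨K, hK, hinj, ⟨e⟩⟩ := Noeth.exists_kinj_rep L
  exact good_of_iso f e (good_of_complex f K (isIso_rpushUnit_of_injective f _ (fun n => (K.X n).property)
    fun n => haveI := hinj n; Noeth.injective_inc (K.X n)))

lemma isAffineHom_of_affineDiagonal (hd : ∀ U V : Y.Opens, IsAffineOpen U → IsAffineOpen V → IsAffineOpen (U ⊓ V))
    {A : Scheme.{u}} [IsAffine A] (g : A ⟶ Y) : IsAffineHom g := by
  haveI : IsAffineHom (pullback.diagonal (terminal.from Y)) :=
    isAffineHom_diagonal_iff.2 fun _ _ V₁ _ V₂ _ h₁ h₂ => hd V₁ V₂ h₁ h₂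
  haveI hc : IsAffineHom (g ≫ terminal.from Y) := isAffineHom_of_isAffine _
  haveI : MorphismProperty.HasOfPostcompProperty @IsAffineHom (MorphismProperty.diagonal @IsAffineHom) :=
    MorphismProperty.hasOfPostcompProperty_iff_le_diagonal.2 le_rfl
  exact MorphismProperty.of_postcomp @IsAffineHom (W' := MorphismProperty.diagonal @IsAffineHom) g
    (terminal.from Y) ‹IsAffineHom (pullback.diagonal (terminal.from Y))› hc

/-- An affine morphism pushes resolutions of quasi-coherent complexes to quasi-isomorphisms. -/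
lemma quasiIso_push_map {U V : Scheme.{u}} (f : U ⟶ V) [IsAffineHom f] (F : CochainComplex U.Modules ℤ)
    (hq : ∀ n, Coh.IsQCoh (F.X n)) {I : CochainComplex U.Modules ℤ} [I.IsKInjective] (s : F ⟶ I) [QuasiIso s] :
    QuasiIso (((Scheme.Modules.pushforward f).mapHomologicalComplex (ComplexShape.up ℤ)).map s) := by
  let P := (Scheme.Modules.pushforward f).mapHomologicalComplex (ComplexShape.up ℤ)
  have hC : ∀ n, ((P.obj (CochainComplex.mappingCone s))).ExactAt n := by
    refine exactAt_of_sections fun W hW n z hz => ?_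
    obtain ⟨y, hy⟩ := exists_lift_cone hq (hW.preimage f) s n (secPushEquiv f W _ z) (by
      rw [← secPushEquiv_naturality]
      exact (congrArg _ hz).trans (secPushEquiv_zero f W _))
    refine ⟨(secPushEquiv f W _).symm y, (secPushEquiv f W _).injective ?_⟩
    refine (secPushEquiv_naturality f W _ _).trans ?_
    rw [Equiv.apply_symm_apply, hy]
  haveI : QuasiIso (P.map s) := by
    have hC' : HomotopyCategory.subcategoryAcyclic V.Modules
        ((HomotopyCategory.quotient V.Modules (ComplexShape.up ℤ)).obj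
          (CochainComplex.mappingCone (P.map s))) := by
      refine (HomotopyCategory.quotient_obj_mem_subcategoryAcyclic_iff_exactAt _).2 fun n => ?_
      exact ((hC n).of_iso
        ((CochainComplex.mappingCone.mapHomologicalComplexIso s (Scheme.Modules.pushforward f))))
    have hW : (HomotopyCategory.subcategoryAcyclic V.Modules).trW
        ((HomotopyCategory.quotient V.Modules (ComplexShape.up ℤ)).map (P.map s)) :=
      ⟨_, _, _, HomotopyCategory.mappingCone_triangleh_distinguished (P.map s), hC'⟩
    rwa [← HomotopyCategory.quasiIso_eq_trW_subcategoryAcyclic,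
      HomotopyCategory.quotient_map_mem_quasiIso_iff, HomologicalComplex.mem_quasiIso_iff] at hW
  exact this

/-- The derived unit is invertible when `f_*` keeps one resolution a quasi-isomorphism. -/
lemma isIso_rpushUnit_of_resolution {U V : Scheme.{u}} (f : U ⟶ V) [DCoh.HasRpush f]
    {F I : CochainComplex U.Modules ℤ} [I.IsKInjective] (s : F ⟶ I) [QuasiIso s]
    [QuasiIso (((Scheme.Modules.pushforward f).mapHomologicalComplex (ComplexShape.up ℤ)).map s)] :
    IsIso (((DCoh.pushKh f).totalRightDerivedUnit DerivedCategory.Qh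
      (HomotopyCategory.quasiIso U.Modules (ComplexShape.up ℤ))).app
        ((HomotopyCategory.quotient U.Modules (ComplexShape.up ℤ)).obj F)) := by
  let q := HomotopyCategory.quotient U.Modules (ComplexShape.up ℤ)
  let P := (Scheme.Modules.pushforward f).mapHomologicalComplex (ComplexShape.up ℤ)
  haveI : IsIso ((DCoh.pushKh f).map (q.map s)) :=
    (NatIso.isIso_map_iff ((Functor.associator _ _ _).symm ≪≫
      Functor.isoWhiskerRight ((Scheme.Modules.pushforward f).mapHomotopyCategoryFactors
        (ComplexShape.up ℤ)) _ ≪≫ Functor.associator _ _ _ ≪≫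
      Functor.isoWhiskerLeft _ (DerivedCategory.quotientCompQhIso V.Modules)) s).2
      (inferInstanceAs (IsIso (DerivedCategory.Q.map (P.map s))))
  haveI : IsIso (DerivedCategory.Qh.map (q.map s)) :=
    (NatIso.isIso_map_iff (DerivedCategory.quotientCompQhIso U.Modules) s).2 inferInstance
  haveI := KFlatLib.isIso_unit_of_kInjective f I
  let α := (DCoh.pushKh f).totalRightDerivedUnit DerivedCategory.Qh
    (HomotopyCategory.quasiIso U.Modules (ComplexShape.up ℤ))
  haveI : IsIso (α.app (q.obj F) ≫ (DCoh.Rpush f).map (DerivedCategory.Qh.map (q.map s))) := by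
    have := α.naturality (q.map s)
    simp only [Functor.comp_map] at this
    rw [← this]
    change IsIso ((DCoh.pushKh f).map (q.map s) ≫ α.app (q.obj I))
    exact IsIso.comp_isIso' inferInstance ‹_›
  exact IsIso.of_isIso_comp_right (α.app (q.obj F))
    ((DCoh.Rpush f).map (DerivedCategory.Qh.map (q.map s)))

/-- Direct images from affine opens are good when `j ≫ f` is affine. -/
lemma good_qpush {U : Scheme.{u}} (j : U ⟶ X) [IsOpenImmersion j] [IsAffineHom j] [IsAffineHom (j ≫ f)]
    [DCoh.HasRpush f] (L : DerivedCategory (QC U)) : Good f ((qpush j).mapDerivedCategory.obj L) := by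
  obtain ⟨K, hK, -, ⟨e⟩⟩ := Noeth.exists_kinj_rep L
  let P := ((qpush j).mapHomologicalComplex (ComplexShape.up ℤ)).obj K
  haveI : CochainComplex.IsKInjective P := SiteBase.isKInjective_map (qadj j) K
  refine good_of_iso f (((DerivedCategory.quotientCompQhIso (QC X)).app P) ≪≫
    ((qpush j).mapDerivedCategoryFactors.app K).symm ≪≫ (qpush j).mapDerivedCategory.mapIso
      (((DerivedCategory.quotientCompQhIso (QC U)).app K).symm ≪≫ e)) (good_of_complex f P ?_)
  let F := ((inc U).mapHomologicalComplex (ComplexShape.up ℤ)).obj K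
  let pj := (Scheme.Modules.pushforward j).mapHomologicalComplex (ComplexShape.up ℤ)
  let pf := (Scheme.Modules.pushforward f).mapHomologicalComplex (ComplexShape.up ℤ)
  let pjf := (Scheme.Modules.pushforward (j ≫ f)).mapHomologicalComplex (ComplexShape.up ℤ)
  obtain ⟨I, s, hI, hs⟩ := exists_kInjective_res F
  haveI : (Scheme.Modules.pullback j).Additive := Functor.additive_of_preserves_binary_products _
  haveI : CochainComplex.IsKInjective (pj.obj I) := isKInjective_pushforward j I
  haveI : QuasiIso (pj.map s) := quasiIso_push_map j F (fun n => (K.X n).property) s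
  haveI : QuasiIso (pjf.map s) := quasiIso_push_map (j ≫ f) F (fun n => (K.X n).property) s
  haveI : QuasiIso (pf.map (pj.map s)) := inferInstanceAs (QuasiIso (pjf.map s))
  exact isIso_rpushUnit_of_resolution f (pj.map s)

section Affine

attribute [local irreducible] Good

variable [CompactSpace X] {n : ℕ} {R : Fin n → CommRingCat.{u}} (j : ∀ i, Spec (R i) ⟶ X)
  [∀ i, IsOpenImmersion (j i)] [∀ i, IsAffineHom (j i)] (hcov : ∀ x : X, ∃ i, x ∈ Set.range (j i).base)

include hcov in
theorem good_charts [DCoh.HasRpush f] [∀ i, IsAffineHom (j i ≫ f)] (M : DerivedCategory (QC X)) : Good f M := by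
  suffices ∀ (m : ℕ), m ≤ n → ∀ (M : DerivedCategory (QC X)), ZeroOn j (n - m) ((incD X).obj M) →
      Good f M from
    this n le_rfl M fun i hi => absurd hi (by omega)
  intro m
  induction m with
  | zero => exact fun _ M hM => good_of_isZero f (isZero_of_isZero_incD (isZero_of_zeroOn j hcov hM))
  | succ m ih =>
    intro hm M hM
    let k : Fin n := ⟨n - (m + 1), by omega⟩
    haveI := hasRpush_scheme (j k)
    let a := qadjD (j k)
    obtain ⟨C, g, d, hT⟩ := distinguished_cocone_triangle (a.unit.app M)
    let L := (qres (j k)).mapDerivedCategory.obj M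
    have h2 : Good f ((qpush (j k)).mapDerivedCategory.obj L) := good_qpush f (j k) L
    refine good_obj₁ f hT ?_ ?_
    · exact h2
    refine ih (by omega) C ?_
    rw [show n - m = (k : ℕ) + 1 by simp only [k]; omega]
    refine zeroOn_succ j ((incD X).map_distinguished _ hT) k hM ?_ ?_
    · obtain ⟨e⟩ := nonempty_incD_qpush (j k) L
      intro i hi
      refine IsZero.of_iso (zeroOn_rpush j k hM i hi) ((rho (j i)).mapIso (e ≪≫
        (DCoh.Rpush (j k)).mapIso ((incRho (j k)).app M).symm))
    · have hu : IsIso ((qres (j k)).mapDerivedCategory.map (a.unit.app M)) :=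
        @IsIso.of_isIso_fac_right _ _ _ _ _ _ _ _ inferInstance (IsIso.id _) (a.left_triangle_components M)
      have hC : IsZero ((qres (j k)).mapDerivedCategory.obj C) :=
        (Triangle.isZero₃_iff_isIso₁ _ ((qres (j k)).mapDerivedCategory.map_distinguished _ hT)).2 hu
      exact IsZero.of_iso ((incD (Spec (R k))).map_isZero hC) ((incRho (j k)).app C)

end Affine

end Groth.Agent.QCohEquiv7
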